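import Cfsg.Agent.H6.ORE.Fix
import Cfsg.Agent.KFacts.LargeO2

/-!
# Commutators in the centralizer of an involution with an irreducible large extraspecial subgroup (helper6)

`Large Q z`, `Irr Q z`, `C_G(z)/Q ≅ L` where every nontrivial element of `L` is a commutator of two generators.  With
commuting elements `p`, `q` of `C_G(z)`, `p` of prime order `r ∤ |Q|`, without common fixed points on `Q/⟨z⟩`, `p` with
fixed points on `Q/⟨z⟩`:  every `x ≠ 1` of `C_G(z)` is a commutator `[a, b]` such that `⟨a, b⟩` contains a conjugate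
of `p` (`main`).
-/

set_option autoImplicit false

namespace Cfsg.Agent.H6.ORE

universe u

open Cfsg.Agent.Co2Type.Quad (Large)
open Cfsg.Agent.KFacts.LargeO2 (Irr fixQ mem_fixQ mem_of_triv)

variable {G : Type u} [Group G] {Q : Subgroup G} {z : G}

/-- the centralizer -/
abbrev CZ (z : G) : Subgroup G := Subgroup.centralizer ({z} : Set G)

/-- `z` in its centralizer -/
def zC (z : G) : CZ z := ⟨z, Subgroup.mem_centralizer_singleton_iff.2 rfl⟩

theorem es_of_large (h : Large Q z) : ES (Q.subgroupOf (CZ z)) (zC z) where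
  normal := ⟨fun x hx g => by
    rw [Subgroup.mem_subgroupOf] at hx ⊢
    exact h.conj_mem g (Subgroup.mem_centralizer_singleton_iff.1 g.2) x hx⟩
  mem := h.z_mem
  ne := fun e => h.z_ne (congrArg Subtype.val e)
  sq := Subtype.ext h.z_sq
  central := fun g => Subtype.ext (Subgroup.mem_centralizer_singleton_iff.1 g.2)
  comm := fun x hx y hy => by
    rcases h.comm x hx y hy with e | e
    · exact Or.inl (Subtype.ext e)
    · exact Or.inr (Subtype.ext e)
  pow := fun x hx => by
    rcases h.sq x hx with e | e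
    · exact Or.inl (Subtype.ext e)
    · exact Or.inr (Subtype.ext e)
  nd := fun x hx hy => by
    rcases h.cent x hx (fun y hyQ => congrArg Subtype.val
      (hy ⟨y, Subgroup.mem_centralizer_singleton_iff.2 (h.comm_z y hyQ)⟩ hyQ)) with e | e
    · exact Or.inl (Subtype.ext e)
    · exact Or.inr (Subtype.ext e)

/-- generators modulo `Q` of `C_G(z)` satisfy `FPz` -/
theorem fpz_of_gen [Finite G] (h : Large Q z) (hirr : Irr Q z) {L : Type*} [Group L]
    (π : CZ z →* L)
    (hker : π.ker = Q.subgroupOf (CZ z))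
    {a b c : CZ z} (hc : (c : G) ∉ Q)
    (hgen : Subgroup.closure ({π a, π b} : Set L) = ⊤) :
    FPz (Q.subgroupOf (CZ z)) (zC z) a b := by
  have hE := es_of_large h
  have hfinQ : Finite Q := inferInstance
  have hfin : Finite (Q.subgroupOf (CZ z)) := inferInstance
  apply FPz.of_fix hE
  intro y hy hya hyb
  -- the stabilizer of `y` modulo `z`
  let W : Subgroup (CZ z) :=
    { carrier := {g | g * y * g⁻¹ = y ∨ g * y * g⁻¹ = y * zC z}
      one_mem' := Or.inl (by group)
      mul_mem' := by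
        rintro g k (hg | hg) (hk | hk)
        · left
          calc g * k * y * (g * k)⁻¹ = g * (k * y * k⁻¹) * g⁻¹ := by group
            _ = y := by rw [hk, hg]
        · right
          calc g * k * y * (g * k)⁻¹ = g * (k * y * k⁻¹) * g⁻¹ := by group
            _ = g * (y * zC z) * g⁻¹ := by rw [hk]
            _ = g * y * (zC z * g⁻¹) := by group
            _ = g * y * (g⁻¹ * zC z) := by rw [hE.central]
            _ = (g * y * g⁻¹) * zC z := by group
            _ = y * zC z := by rw [hg]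
        · right
          calc g * k * y * (g * k)⁻¹ = g * (k * y * k⁻¹) * g⁻¹ := by group
            _ = y * zC z := by rw [hk, hg]
        · left
          calc g * k * y * (g * k)⁻¹ = g * (k * y * k⁻¹) * g⁻¹ := by group
            _ = g * (y * zC z) * g⁻¹ := by rw [hk]
            _ = g * y * (zC z * g⁻¹) := by group
            _ = g * y * (g⁻¹ * zC z) := by rw [hE.central]
            _ = (g * y * g⁻¹) * zC z := by group
            _ = y * (zC z * zC z) := by rw [hg]; group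
            _ = y := by rw [hE.sq, mul_one]
      inv_mem' := by
        rintro g (hg | hg)
        · left
          calc g⁻¹ * y * g⁻¹⁻¹ = g⁻¹ * (g * y * g⁻¹) * g := by rw [hg]; group
            _ = y := by group
        · right
          have h1 : y = g⁻¹ * y * g * zC z := by
            calc y = g⁻¹ * (g * y * g⁻¹) * g := by group
              _ = g⁻¹ * y * (zC z * g) := by rw [hg]; group
              _ = g⁻¹ * y * (g * zC z) := by rw [hE.central]
              _ = g⁻¹ * y * g * zC z := by group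
          calc g⁻¹ * y * g⁻¹⁻¹ = g⁻¹ * y * g * (zC z * zC z) := by rw [hE.sq]; group
            _ = (g⁻¹ * y * g * zC z) * zC z := by group
            _ = y * zC z := by rw [← h1] }
  have hWQ : π.ker ≤ W := by
    rw [hker]
    intro g hg
    obtain ⟨ζ, hζ, e⟩ := hE.conj_eq hg hy
    rcases hζ with rfl | rfl
    · left
      show g * y * g⁻¹ = y
      rw [e, mul_one]
    · right
      show g * y * g⁻¹ = y * zC z
      exact e
  have hWtop : W = ⊤ := by
    have h1 : W.map π = ⊤ := by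
      rw [eq_top_iff, ← hgen, Subgroup.closure_le]
      rintro _ (rfl | rfl)
      · exact ⟨a, hya, rfl⟩
      · exact ⟨b, hyb, rfl⟩
    rw [eq_top_iff]
    intro g _
    obtain ⟨w, hw, e⟩ : π g ∈ W.map π := by rw [h1]; trivial
    have h2 : w⁻¹ * g ∈ π.ker := by
      rw [MonoidHom.mem_ker, map_mul, map_inv, e, inv_mul_cancel]
    have h3 : g = w * (w⁻¹ * g) := by group
    rw [h3]
    exact W.mul_mem hw (hWQ h2)
  -- irreducibility
  have hy' : (y : G) ∈ Q := hy
  have hmem : (y : G) ∈ fixQ h (CZ z : Set G) := by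
    rw [mem_fixQ]
    refine ⟨hy', fun w hw => ?_⟩
    have h1 : (⟨w, hw⟩ : CZ z) ∈ W := by rw [hWtop]; trivial
    rcases h1 with h2 | h2
    · exact Or.inl (congrArg Subtype.val h2)
    · exact Or.inr (congrArg Subtype.val h2)
  rcases hirr (fixQ h (CZ z : Set G)) (fun x hx => hx.1) (by
    intro u hu x hx
    rw [mem_fixQ] at hx ⊢
    refine ⟨h.conj_mem u hu x hx.1, fun w hw => ?_⟩
    have huC : u ∈ CZ z := Subgroup.mem_centralizer_singleton_iff.2 hu
    have h1 := hx.2 (u⁻¹ * w * u) ((CZ z).mul_mem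
      ((CZ z).mul_mem ((CZ z).inv_mem huC) hw) huC)
    rcases h1 with h2 | h2
    · left
      calc w * (u * x * u⁻¹) * w⁻¹ = u * (u⁻¹ * w * u * x * (u⁻¹ * w * u)⁻¹) * u⁻¹ := by group
        _ = u * x * u⁻¹ := by rw [h2]
    · right
      have huz : z * u⁻¹ = u⁻¹ * z := by
        have : u⁻¹ * (u * z) * u⁻¹ = u⁻¹ * (z * u) * u⁻¹ := by rw [hu]
        calc z * u⁻¹ = u⁻¹ * (u * z) * u⁻¹ := by group
          _ = u⁻¹ * (z * u) * u⁻¹ := this
          _ = u⁻¹ * z := by group
      calc w * (u * x * u⁻¹) * w⁻¹ = u * (u⁻¹ * w * u * x * (u⁻¹ * w * u)⁻¹) * u⁻¹ := by group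
        _ = u * x * (z * u⁻¹) := by rw [h2]; group
        _ = u * x * u⁻¹ * z := by rw [huz]; group) with h1 | h1
  · rcases h1 y hmem with h2 | h2
    · exact Or.inl (Subtype.ext h2)
    · exact Or.inr (Subtype.ext h2)
  · exfalso
    apply hc
    apply mem_of_triv h (Subgroup.mem_centralizer_singleton_iff.1 c.2)
    intro x hx
    have h2 : x ∈ fixQ h (CZ z : Set G) := by rw [h1]; exact hx
    exact ((mem_fixQ h).1 h2).2 c c.2

section
variable [Finite G]

/-- (A1) elements outside `Q` -/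
theorem main_out (h : Large Q z) (hirr : Irr Q z) {L : Type*} [Group L]
    (π : CZ z →* L) (hπ : Function.Surjective π)
    (hker : π.ker = Q.subgroupOf (CZ z))
    (hL : ∀ l : L, l ≠ 1 → ∃ a b : L, a * b * a⁻¹ * b⁻¹ = l ∧ Subgroup.closure ({a, b} : Set L) = ⊤)
    {r : ℕ} (hr : r.Prime) (hrQ : ¬ r ∣ Nat.card Q) {p : G} (hpz : p * z = z * p) (hp : orderOf p = r)
    {x : G} (hxz : x * z = z * x) (hx : x ∉ Q) :
    ∃ a b : G, x = a * b * a⁻¹ * b⁻¹ ∧ ∃ y ∈ Subgroup.closure ({a, b} : Set G), IsConj y p := by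
  have hE := es_of_large h
  let x' : CZ z := ⟨x, Subgroup.mem_centralizer_singleton_iff.2 hxz⟩
  let p' : CZ z := ⟨p, Subgroup.mem_centralizer_singleton_iff.2 hpz⟩
  have hx1 : π x' ≠ 1 := by
    intro e
    have : x' ∈ π.ker := e
    rw [hker] at this
    exact hx this
  obtain ⟨a0, b0, e0, hgen⟩ := hL _ hx1
  obtain ⟨a, rfl⟩ := hπ a0
  obtain ⟨b, rfl⟩ := hπ b0
  have hfp := fpz_of_gen h hirr π hker (c := x') hx hgen
  have hc : x' * (a * b * a⁻¹ * b⁻¹)⁻¹ ∈ Q.subgroupOf (CZ z) := by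
    rw [← hker, MonoidHom.mem_ker, map_mul, ← e0]
    simp
  have hact : ∃ y ∈ Q.subgroupOf (CZ z), ¬ (x' * y * x'⁻¹ = y ∨ x' * y * x'⁻¹ = y * zC z) := by
    by_contra hno
    push Not at hno
    apply hx
    apply mem_of_triv h hxz
    intro y hy
    by_contra hcon
    push Not at hcon
    have hyC : y ∈ CZ z := Subgroup.mem_centralizer_singleton_iff.2 (h.comm_z y hy)
    have h2 := hno ⟨y, hyC⟩ hy
    rcases h2 with h3 | h3
    · exact hcon.1 (congrArg Subtype.val h3)
    · exact hcon.2 (congrArg Subtype.val h3)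
  obtain ⟨q₁, h₁, q₂, h₂, e⟩ := hE.step hfp hc hact
  have hk : ∀ q ∈ Q.subgroupOf (CZ z), π q = 1 := by
    intro q hq
    rw [← hker] at hq
    exact hq
  -- a conjugate of `p`
  obtain ⟨d, hd, ed⟩ : π p' ∈ (Subgroup.closure ({q₁ * a, q₂ * b} : Set (CZ z))).map π := by
    have h1 : (Subgroup.closure ({q₁ * a, q₂ * b} : Set (CZ z))).map π = ⊤ := by
      rw [MonoidHom.map_closure, Set.image_pair, map_mul, map_mul, hk _ h₁, hk _ h₂, one_mul, one_mul, hgen]
    rw [h1]; trivial
  have hdp : d * p'⁻¹ ∈ Q.subgroupOf (CZ z) := by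
    rw [← hker, MonoidHom.mem_ker, map_mul, map_inv, ed, mul_inv_cancel]
  have hrQ' : ¬ r ∣ Nat.card (Q.subgroupOf (CZ z)) := by
    have hle : Q ≤ CZ z := fun y hy => Subgroup.mem_centralizer_singleton_iff.2 (h.comm_z y hy)
    rw [Nat.card_congr (Subgroup.subgroupOfEquivOfLe hle).toEquiv]
    exact hrQ
  obtain ⟨k, hk'⟩ := exists_isConj hE.normal hr hrQ' (p := p') (d := d)
    (by rw [← Subgroup.orderOf_coe]; exact hp) hdp
  refine ⟨((q₁ * a : CZ z) : G), ((q₂ * b : CZ z) : G), congrArg Subtype.val e, ((d ^ k : CZ z) : G), ?_, ?_⟩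
  · have h3 : d ^ k ∈ Subgroup.closure ({q₁ * a, q₂ * b} : Set (CZ z)) := Subgroup.pow_mem _ hd k
    have h4 : (CZ z).subtype (d ^ k) ∈ (Subgroup.closure ({q₁ * a, q₂ * b} : Set (CZ z))).map (CZ z).subtype := ⟨_, h3, rfl⟩
    rw [MonoidHom.map_closure, Set.image_pair] at h4
    exact h4
  · exact (CZ z).subtype.map_isConj hk'

/-- (A2) noncentral elements of `Q` -/
theorem main_in (h : Large Q z)
    {r : ℕ} (hr : r.Prime) (hrQ : ¬ r ∣ Nat.card Q) {p q : G} (hpz : p * z = z * p) (hqz : q * z = z * q)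
    (hp : orderOf p = r) (hpq : p * q = q * p)
    (hfix : ∀ x ∈ Q, (p * x * p⁻¹ = x ∨ p * x * p⁻¹ = x * z) → (q * x * q⁻¹ = x ∨ q * x * q⁻¹ = x * z) →
      x = 1 ∨ x = z)
    {x : G} (hx : x ∈ Q) (hx1 : x ≠ 1) (hxz : x ≠ z) :
    ∃ a b : G, x = a * b * a⁻¹ * b⁻¹ ∧ ∃ y ∈ Subgroup.closure ({a, b} : Set G), IsConj y p := by
  have hE := es_of_large h
  let x' : CZ z := ⟨x, Subgroup.mem_centralizer_singleton_iff.2 (h.comm_z x hx)⟩
  let p' : CZ z := ⟨p, Subgroup.mem_centralizer_singleton_iff.2 hpz⟩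
  let q' : CZ z := ⟨q, Subgroup.mem_centralizer_singleton_iff.2 hqz⟩
  have hfp : FPz (Q.subgroupOf (CZ z)) (zC z) p' q' := by
    apply FPz.of_fix hE
    intro y hy h1 h2
    have h3 := hfix y hy (h1.imp (congrArg Subtype.val) (congrArg Subtype.val))
      (h2.imp (congrArg Subtype.val) (congrArg Subtype.val))
    exact h3.imp (fun e => Subtype.ext e) (fun e => Subtype.ext e)
  obtain ⟨α, β, hα, -, e⟩ := hE.exists_of_mem (a := p') (b := q') (Subtype.ext hpq) hfp (q := x') hx
    (by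
      rintro (e | e)
      · exact hx1 (congrArg Subtype.val e)
      · exact hxz (congrArg Subtype.val e))
  have hrQ' : ¬ r ∣ Nat.card (Q.subgroupOf (CZ z)) := by
    have hle : Q ≤ CZ z := fun y hy => Subgroup.mem_centralizer_singleton_iff.2 (h.comm_z y hy)
    rw [Nat.card_congr (Subgroup.subgroupOfEquivOfLe hle).toEquiv]
    exact hrQ
  obtain ⟨k, hk'⟩ := exists_isConj hE.normal hr hrQ' (p := p') (d := α)
    (by rw [← Subgroup.orderOf_coe]; exact hp) hα
  refine ⟨(α : G), (β : G), congrArg Subtype.val e, (α : G) ^ k, ?_, ?_⟩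
  · have h1 : (α : G) ∈ Subgroup.closure ({(α : G), (β : G)} : Set G) := Subgroup.subset_closure (Or.inl rfl)
    exact Subgroup.pow_mem _ h1 k
  · exact (CZ z).subtype.map_isConj hk'

omit [Finite G] in
/-- (A3) the involution `z` -/
theorem main_z (h : Large Q z) {p s : G} (hpz : p * z = z * p) (hp : p ^ 5 = 1)
    (hs : s ∈ Q) (hs1 : s ≠ 1) (hsz : s ≠ z) (hps : p * s = s * p) :
    ∃ a b : G, z = a * b * a⁻¹ * b⁻¹ ∧ ∃ y ∈ Subgroup.closure ({a, b} : Set G), IsConj y p := by
  have h0 : ∃ w ∈ Q, s * w ≠ w * s := by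
    by_contra hno
    push Not at hno
    rcases h.cent s hs hno with e | e
    · exact hs1 e
    · exact hsz e
  obtain ⟨w, hw, hsw⟩ := h0
  have hsw' : s * w = w * s * z := (h.comm s hs w hw).resolve_left hsw
  have hcz : ∀ x, x * z = z * x → ∀ y ∈ Q, x * y * x⁻¹ ∈ Q := fun x hx y hy => h.conj_mem x hx y hy
  obtain ⟨w1, hw1⟩ : ∃ w1, w1 = (w * p) ^ 5 := ⟨_, rfl⟩
  have e1 : w1 = w * (p * w * p⁻¹) * (p ^ 2 * w * (p ^ 2)⁻¹) * (p ^ 3 * w * (p ^ 3)⁻¹) * (p ^ 4 * w * (p ^ 4)⁻¹) := by
    have e2 : w1 = w * (p * w * p⁻¹) * (p ^ 2 * w * (p ^ 2)⁻¹) * (p ^ 3 * w * (p ^ 3)⁻¹)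
        * (p ^ 4 * w * (p ^ 4)⁻¹) * p ^ 5 := by
      rw [hw1]; simp only [pow_succ, pow_zero, one_mul]; group
    rw [e2, hp, mul_one]
  have hpzk : ∀ k : ℕ, p ^ k * z = z * p ^ k := fun k => ((show Commute p z from hpz).pow_left k).eq
  have hw1Q : w1 ∈ Q := by
    rw [e1]
    exact Q.mul_mem (Q.mul_mem (Q.mul_mem (Q.mul_mem hw (hcz p hpz w hw)) (hcz _ (hpzk 2) w hw))
      (hcz _ (hpzk 3) w hw)) (hcz _ (hpzk 4) w hw)
  -- `s` and `w1`
  have hs2 : s * w1 * s⁻¹ = w1 * z := by
    have h1 : s * (w * p) * s⁻¹ = (w * p) * z := by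
      calc s * (w * p) * s⁻¹ = (s * w) * (p * s⁻¹) := by group
        _ = (w * s * z) * (p * s⁻¹) := by rw [hsw']
        _ = w * s * (z * p) * s⁻¹ := by group
        _ = w * s * (p * z) * s⁻¹ := by rw [hpz]
        _ = w * (s * p) * (z * s⁻¹) := by group
        _ = w * (p * s) * (s⁻¹ * z) := by
            rw [hps, h.comm_z s⁻¹ (Q.inv_mem hs)]
        _ = w * p * z := by group
    have h2 : Commute (w * p) z := by
      have := h.comm_z w hw
      exact (show Commute w z from this).mul_left (show Commute p z from hpz)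
    have hz2 : z ^ 2 = 1 := by rw [pow_two]; exact h.z_sq
    rw [hw1, ← conj_pow, h1, h2.mul_pow]
    congr 1
    calc z ^ 5 = (z ^ 2) ^ 2 * z := by rw [← pow_mul, ← pow_succ]
      _ = z := by rw [hz2, one_pow, one_mul]
  -- `p` commutes with `w1`
  have hpw : p * w1 = w1 * p := by
    have h1 : p * w1 * p⁻¹ = w⁻¹ * w1 * w := by
      rw [hw1]
      have h2 : p * (w * p) ^ 5 * p⁻¹ = w⁻¹ * ((w * p) * (w * p) ^ 5) * p⁻¹ := by
        generalize (w * p) ^ 5 = t
        group
      have h3 : (w * p) * (w * p) ^ 5 = (w * p) ^ 5 * (w * p) := by rw [← pow_succ, ← pow_succ']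
      rw [h2, h3]
      generalize (w * p) ^ 5 = t
      group
    rcases h.comm w1 hw1Q w hw with h2 | h2
    · have h3 : p * w1 * p⁻¹ = w1 := by
        rw [h1, mul_assoc, h2]; group
      calc p * w1 = (p * w1 * p⁻¹) * p := by group
        _ = w1 * p := by rw [h3]
    · exfalso
      have h3 : p * w1 * p⁻¹ = w1 * z := by
        rw [h1, mul_assoc, h2]; group
      have h4 : ∀ k : ℕ, p ^ k * w1 * (p ^ k)⁻¹ = w1 * z ^ k := by
        intro k
        induction k with
        | zero => simp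
        | succ k ih =>
          calc p ^ (k + 1) * w1 * (p ^ (k + 1))⁻¹ = p * (p ^ k * w1 * (p ^ k)⁻¹) * p⁻¹ := by
                rw [pow_succ']; group
            _ = p * (w1 * z ^ k) * p⁻¹ := by rw [ih]
            _ = p * w1 * (z ^ k * p⁻¹) := by group
            _ = p * w1 * (p⁻¹ * z ^ k) := by
                rw [(((show Commute p z from hpz).pow_right k).inv_left).eq]
            _ = (p * w1 * p⁻¹) * z ^ k := by group
            _ = w1 * z ^ (k + 1) := by rw [h3, pow_succ']; group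
      have h5 := h4 5
      rw [hp] at h5
      have hz2 : z ^ 2 = 1 := by rw [pow_two]; exact h.z_sq
      have h6 : z ^ 5 = z := by
        calc z ^ 5 = (z ^ 2) ^ 2 * z := by rw [← pow_mul, ← pow_succ]
          _ = z := by rw [hz2, one_pow, one_mul]
      rw [h6] at h5
      apply h.z_ne
      have h7 : w1 = w1 * z := by simpa using h5
      exact (mul_left_cancel (a := w1) (by rw [mul_one]; exact h7)).symm
  have hmem : p * s ∈ Subgroup.closure ({p * s, w1} : Set G) := Subgroup.subset_closure (Or.inl rfl)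
  refine ⟨p * s, w1, ?_, (p * s) ^ 16, Subgroup.pow_mem _ hmem 16, ?_⟩
  · calc z = w1 * z * w1⁻¹ := by rw [h.comm_z w1 hw1Q]; group
      _ = (s * w1 * s⁻¹) * w1⁻¹ := by rw [hs2]
      _ = (p * (s * w1 * s⁻¹) * p⁻¹) * w1⁻¹ := by
          congr 1
          rw [hs2]
          calc w1 * z = (w1 * z) * p * p⁻¹ := by group
            _ = w1 * (p * z) * p⁻¹ := by rw [hpz]; group
            _ = (w1 * p) * z * p⁻¹ := by group
            _ = p * (w1 * z) * p⁻¹ := by rw [← hpw]; group
      _ = p * s * w1 * (p * s)⁻¹ * w1⁻¹ := by group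
  · have hs4 : s ^ 4 = 1 := by
      rcases h.sq s hs with e | e
      · calc s ^ 4 = (s * s) * (s * s) := by simp only [pow_succ, pow_zero, one_mul, mul_assoc]
          _ = 1 := by rw [e, one_mul]
      · calc s ^ 4 = (s * s) * (s * s) := by simp only [pow_succ, pow_zero, one_mul, mul_assoc]
          _ = 1 := by rw [e]; exact h.z_sq
    have h1 : (p * s) ^ 16 = p := by
      rw [(show Commute p s from hps).mul_pow]
      have h2 : p ^ 16 = p := by
        calc p ^ 16 = (p ^ 5) ^ 3 * p := by rw [← pow_mul, ← pow_succ]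
          _ = p := by rw [hp, one_pow, one_mul]
      have h3 : s ^ 16 = 1 := by
        calc s ^ 16 = (s ^ 4) ^ 4 := by rw [← pow_mul]
          _ = 1 := by rw [hs4, one_pow]
      rw [h2, h3, mul_one]
    rw [h1]

end

/-- a 2-element is conjugate into a subgroup of odd index -/
theorem exists_conj_mem {G : Type*} [Group G] [Finite G] {C : Subgroup G} (hC : Odd C.index) {x : G}
    (hx : ∃ k : ℕ, orderOf x = 2 ^ k) : ∃ g : G, g * x * g⁻¹ ∈ C := by
  have : Fact (Nat.Prime 2) := ⟨Nat.prime_two⟩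
  obtain ⟨k, hk⟩ := hx
  have hP : IsPGroup 2 (Subgroup.zpowers x) := IsPGroup.of_card (n := k) (by rw [Nat.card_zpowers, hk])
  have hn : ¬ 2 ∣ Nat.card (G ⧸ C) := by
    rw [← Subgroup.index_eq_card]
    rcases hC with ⟨m, hm⟩
    omega
  obtain ⟨q, hq⟩ := hP.nonempty_fixed_point_of_prime_not_dvd_card (G ⧸ C) hn
  obtain ⟨g, rfl⟩ := QuotientGroup.mk_surjective q
  have h1 := hq ⟨x, Subgroup.mem_zpowers x⟩
  have h2 : (QuotientGroup.mk (x * g) : G ⧸ C) = QuotientGroup.mk g := h1
  rw [eq_comm, QuotientGroup.eq] at h2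
  refine ⟨g⁻¹, ?_⟩
  rw [inv_inv, mul_assoc]
  exact h2

end Cfsg.Agent.H6.ORE
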