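import Cfsg.Agent.H6.ORE.Coset

/-!
# The extraspecial coset lemma (helper6, cluster ORE)

`Q ⊴ H` finite, `z ∈ Q` central involution of `H`, `Q/⟨z⟩` elementary abelian and the commutator form
non-degenerate.  If `V = Q/⟨z⟩` satisfies `V = [V, ⟨a, b⟩]` and `c ∈ Q [a, b]` acts non-trivially on
`V`, then `c = [q₁ a, q₂ b]` with `qᵢ ∈ Q`.  Elementary proof (no characters).
-/

set_option autoImplicit false

namespace Cfsg.Agent.H6.ORE

universe u

open Module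

/-- the linear algebra behind the extraspecial coset lemma -/
theorem rank_lemma {V : Type*} [AddCommGroup V] [Module (ZMod 2) V] [FiniteDimensional (ZMod 2) V]
    (ω : LinearMap.BilinForm (ZMod 2) V) (hnd : ω.Nondegenerate) (hs : ∀ x y, ω x y = ω y x)
    (α β β' γ : V ≃ₗ[ZMod 2] V) (hα : ∀ x y, ω (α x) (α y) = ω x y)
    (hβ' : ∀ x y, ω (β' x) (β' y) = ω x y) (hγ : ∀ x y, ω (γ x) (γ y) = ω x y)
    (e1 : ∀ x, β' (α x) = α (β x)) (e2 : ∀ x, γ (β x) = β' x)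
    (hφ : ∀ w, ∃ r₁ r₂, r₁ + β' r₁ + (α r₂ + γ r₂) = w)
    (hB : ∀ q₁ q₂ r₁ r₂, q₁ + β' q₁ + (α q₂ + γ q₂) = 0 → r₁ + β' r₁ + (α r₂ + γ r₂) = 0 →
      ω q₁ (α r₂) + ω (β' r₁) (γ q₂) = 0) : ∀ x, γ x = x := by
  classical
  have two : ∀ v : V, v + v = 0 := by
    intro v
    have : (2 : ZMod 2) • v = 0 := by
      rw [show (2 : ZMod 2) = 0 from rfl, zero_smul]
    rwa [two_smul] at this
  have cancel : ∀ {u v : V}, u + v = 0 → u = v := by
    intro u v h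
    have := congrArg (fun t => t + v) h
    simpa [add_assoc, two] using this
  let φ : V × V →ₗ[ZMod 2] V :=
    (LinearMap.id + β'.toLinearMap).comp (LinearMap.fst _ V V)
      + (α.toLinearMap + γ.toLinearMap).comp (LinearMap.snd _ V V)
  have hφa : ∀ r : V × V, φ r = r.1 + β' r.1 + (α r.2 + γ r.2) := fun r => rfl
  have hsurj : Function.Surjective φ := by
    intro w
    obtain ⟨r₁, r₂, h⟩ := hφ w
    exact ⟨(r₁, r₂), h⟩
  let ψ : V →ₗ[ZMod 2] V × V :=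
    LinearMap.prod (LinearMap.id + α.toLinearMap) (LinearMap.id + β.toLinearMap)
  have hψa : ∀ x, ψ x = (x + α x, x + β x) := fun x => rfl
  -- key inclusion
  have key : ∀ q ∈ LinearMap.ker φ, ∃ x, γ x = x ∧ ψ x = q := by
    intro q hq
    let ℓ : V × V →ₗ[ZMod 2] ZMod 2 :=
      ((ω q.1).comp α.toLinearMap).comp (LinearMap.snd _ V V)
        + ((ω (γ q.2)).comp β'.toLinearMap).comp (LinearMap.fst _ V V)
    have hℓa : ∀ r : V × V, ℓ r = ω q.1 (α r.2) + ω (γ q.2) (β' r.1) := fun r => rfl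
    have hℓ : ∀ r ∈ LinearMap.ker φ, ℓ r = 0 := by
      intro r hr
      rw [hℓa, hs (γ q.2)]
      exact hB q.1 q.2 r.1 r.2 (by simpa [hφa] using hq) (by simpa [hφa] using hr)
    have h1 : ℓ ∈ LinearMap.range φ.dualMap := by
      rw [LinearMap.range_dualMap_eq_dualAnnihilator_ker, Submodule.mem_dualAnnihilator]
      exact hℓ
    obtain ⟨lam, hlam⟩ := h1
    obtain ⟨x, hx⟩ : ∃ x, ∀ v, ω x v = lam v := by
      refine ⟨(ω.toDual hnd).symm lam, fun v => ?_⟩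
      exact LinearMap.BilinForm.apply_toDual_symm_apply (B := ω) (hB := hnd) lam v
    have h2 : ∀ r : V × V, ω q.1 (α r.2) + ω (γ q.2) (β' r.1) = ω x (φ r) := by
      intro r
      rw [hx, ← hℓa, ← hlam]
      rfl
    have nd : ∀ u v : V, (∀ w, ω u w = ω v w) → u = v := by
      intro u v h
      have h3 : ∀ w, ω (u - v) w = 0 := by
        intro w
        rw [map_sub, LinearMap.sub_apply, h w, sub_self]
      exact sub_eq_zero.1 (hnd.1 _ h3)
    -- q₁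
    have hq1 : q.1 = x + α (γ.symm x) := by
      apply nd
      intro w
      obtain ⟨w', rfl⟩ := α.surjective w
      have := h2 (0, w')
      simp only [hφa, map_zero, add_zero, zero_add] at this
      rw [this]
      simp only [map_add, LinearMap.add_apply]
      congr 1
      rw [hα]
      have h6 := hγ (γ.symm x) w'
      rw [LinearEquiv.apply_symm_apply] at h6
      exact h6
    have hq2 : γ q.2 = x + β' x := by
      apply nd
      intro w
      obtain ⟨w', rfl⟩ := β'.surjective w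
      have := h2 (w', 0)
      simp only [hφa, map_zero, add_zero, zero_add] at this
      rw [this]
      simp only [map_add, LinearMap.add_apply]
      rw [hβ', add_comm]
    have hq2' : q.2 = γ.symm x + β x := by
      apply γ.injective
      rw [hq2, map_add, LinearEquiv.apply_symm_apply, e2]
    have hq0 : q.1 + β' q.1 + (α q.2 + γ q.2) = 0 := by simpa [hφa] using hq
    have hfix : γ.symm x = x := by
      rw [hq2, hq2', hq1] at hq0
      simp only [map_add] at hq0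
      rw [e1] at hq0
      have h5 : α (β (γ.symm x)) + α (β x) = 0 := by
        have e : x + α (γ.symm x) + (β' x + α (β (γ.symm x))) + (α (γ.symm x) + α (β x) + (x + β' x))
            = (x + x) + (α (γ.symm x) + α (γ.symm x)) + (β' x + β' x)
              + (α (β (γ.symm x)) + α (β x)) := by abel
        rw [e] at hq0
        simpa only [two, zero_add] using hq0
      exact β.injective (α.injective (cancel h5))
    have hfix' : γ x = x := by
      conv_lhs => rw [← hfix]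
      exact LinearEquiv.apply_symm_apply γ x
    refine ⟨x, hfix', ?_⟩
    rw [hψa, Prod.ext_iff]
    exact ⟨by rw [hq1, hfix], by rw [hq2', hfix]⟩
  -- dimension count
  let F : Submodule (ZMod 2) V := LinearMap.ker (γ.toLinearMap - LinearMap.id)
  have hF : ∀ x, x ∈ F ↔ γ x = x := by
    intro x
    rw [LinearMap.mem_ker]
    simp [sub_eq_zero]
  have hle : LinearMap.ker φ ≤ F.map ψ := by
    intro q hq
    obtain ⟨x, hx, e⟩ := key q hq
    exact ⟨x, (hF x).2 hx, e⟩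
  have h1 : finrank (ZMod 2) (LinearMap.ker φ) ≤ finrank (ZMod 2) F :=
    (Submodule.finrank_mono hle).trans (Submodule.finrank_map_le ψ F)
  have h2 := LinearMap.finrank_range_add_finrank_ker φ
  rw [LinearMap.range_eq_top.2 hsurj, finrank_top, Module.finrank_prod] at h2
  have h3 : finrank (ZMod 2) V ≤ finrank (ZMod 2) F := by omega
  have h4 : F = ⊤ := Submodule.eq_top_of_finrank_eq (le_antisymm (Submodule.finrank_le F) h3)
  intro x
  exact (hF x).1 (h4 ▸ Submodule.mem_top)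

/-- `Q` is a normal subgroup "extraspecial" with centre `⟨z⟩` of order two, `z` central in `H` -/
structure ES {H : Type*} [Group H] (Q : Subgroup H) (z : H) : Prop where
  normal : Q.Normal
  mem : z ∈ Q
  ne : z ≠ 1
  sq : z * z = 1
  central : ∀ h : H, h * z = z * h
  comm : ∀ x ∈ Q, ∀ y ∈ Q, x * y = y * x ∨ x * y = y * x * z
  pow : ∀ x ∈ Q, x * x = 1 ∨ x * x = z
  nd : ∀ x ∈ Q, (∀ y ∈ Q, x * y = y * x) → x = 1 ∨ x = z

/-- `V = [V, ⟨a, b⟩]` for `V = Q/⟨z⟩` -/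
def FPz {H : Type*} [Group H] (Q : Subgroup H) (z : H) (a b : H) : Prop :=
  ∀ w ∈ Q, ∃ u ∈ Q, ∃ v ∈ Q, ∃ ζ : H, (ζ = 1 ∨ ζ = z) ∧
    w = u * (b * u * b⁻¹)⁻¹ * (v * (a * v * a⁻¹)⁻¹) * ζ

variable {H : Type u} [Group H] {Q : Subgroup H} {z : H}

theorem ES.mem_zpowers (h : ES Q z) {x : H} : x ∈ Subgroup.zpowers z ↔ x = 1 ∨ x = z := by
  constructor
  · rintro ⟨n, rfl⟩
    have h2 : z ^ (2 : ℤ) = 1 := by
      rw [zpow_two]; exact h.sq
    rcases Int.even_or_odd' n with ⟨k, hk | hk⟩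
    · left
      show z ^ n = 1
      rw [hk, zpow_mul, h2, one_zpow]
    · right
      show z ^ n = z
      rw [hk, zpow_add, zpow_mul, h2, one_zpow, one_mul, zpow_one]
  · rintro (rfl | rfl)
    · exact Subgroup.one_mem _
    · exact Subgroup.mem_zpowers _

theorem ES.normal_zpowers (h : ES Q z) : (Subgroup.zpowers z).Normal := by
  refine ⟨fun x hx g => ?_⟩
  rw [h.mem_zpowers] at hx ⊢
  rcases hx with rfl | rfl
  · left; simp
  · right; rw [h.central]; simp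

/-- the coset lemma modulo `z` -/
theorem ES.step_mod (h : ES Q z) {a b c : H} (hfp : FPz Q z a b)
    (hc : c * (a * b * a⁻¹ * b⁻¹)⁻¹ ∈ Q) :
    ∃ q₁ ∈ Q, ∃ q₂ ∈ Q, ∃ ζ : H, (ζ = 1 ∨ ζ = z) ∧
      c * ζ = (q₁ * a) * (q₂ * b) * (q₁ * a)⁻¹ * (q₂ * b)⁻¹ := by
  have hn := h.normal
  have hz := h.normal_zpowers
  let π : H →* H ⧸ Subgroup.zpowers z := QuotientGroup.mk' _
  have hπs : Function.Surjective π := QuotientGroup.mk'_surjective _
  have hπk : ∀ x, π x = 1 ↔ (x = 1 ∨ x = z) := by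
    intro x
    rw [← h.mem_zpowers]
    exact QuotientGroup.eq_one_iff x
  have hπz : π z = 1 := (hπk z).2 (Or.inr rfl)
  have hπe : ∀ x y, π x = π y → ∃ ζ : H, (ζ = 1 ∨ ζ = z) ∧ x * ζ = y := by
    intro x y hxy
    refine ⟨x⁻¹ * y, ?_, by group⟩
    rw [← hπk, map_mul, map_inv, hxy, inv_mul_cancel]
  have hAn : (Q.map π).Normal := hn.map π hπs
  have hAc : ∀ x ∈ Q.map π, ∀ y ∈ Q.map π, x * y = y * x := by
    rintro _ ⟨x, hx, rfl⟩ _ ⟨y, hy, rfl⟩
    rw [← map_mul, ← map_mul]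
    rcases h.comm x hx y hy with e | e
    · rw [e]
    · rw [e, map_mul π (y * x) z, hπz, mul_one]
  have hAf : FP (Q.map π) (π a) (π b) := by
    rintro _ ⟨w, hw, rfl⟩
    obtain ⟨u, hu, v, hv, ζ, hζ, e⟩ := hfp w hw
    refine ⟨π u, ⟨u, hu, rfl⟩, π v, ⟨v, hv, rfl⟩, ?_⟩
    rw [e, map_mul, (hπk ζ).2 hζ, mul_one]
    simp only [map_mul, map_inv]
  have hcA : π c * (π a * π b * (π a)⁻¹ * (π b)⁻¹)⁻¹ ∈ Q.map π := by
    refine ⟨_, hc, ?_⟩
    simp only [map_mul, map_inv]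
  obtain ⟨_, ⟨q₁, h₁, rfl⟩, _, ⟨q₂, h₂, rfl⟩, e⟩ := exists_comm_of_FP hAn hAc hAf hcA
  have e' : π c = π ((q₁ * a) * (q₂ * b) * (q₁ * a)⁻¹ * (q₂ * b)⁻¹) := by
    rw [e]; simp only [map_mul, map_inv]
  obtain ⟨ζ, hζ, e''⟩ := hπe _ _ e'
  exact ⟨q₁, h₁, q₂, h₂, ζ, hζ, e''⟩

theorem ES.conj_mem (h : ES Q z) {x : H} (hx : x ∈ Q) (g : H) : g * x * g⁻¹ ∈ Q :=
  h.normal.conj_mem x hx g

/-- elements of `Q` act trivially modulo `z` -/
theorem ES.conj_eq (h : ES Q z) {p x : H} (hp : p ∈ Q) (hx : x ∈ Q) :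
    ∃ ζ : H, (ζ = 1 ∨ ζ = z) ∧ p * x * p⁻¹ = x * ζ := by
  rcases h.comm p hp x hx with e | e
  · exact ⟨1, Or.inl rfl, by rw [e]; group⟩
  · refine ⟨z, Or.inr rfl, ?_⟩
    rw [e, mul_assoc (x * p), ← h.central]; group

theorem ES.zz (h : ES Q z) {ζ ξ : H} (h1 : ζ = 1 ∨ ζ = z) (h2 : ξ = 1 ∨ ξ = z) :
    ζ * ξ = 1 ∨ ζ * ξ = z := by
  rcases h1 with rfl | rfl <;> rcases h2 with rfl | rfl
  · simp
  · simp
  · simp
  · left; exact h.sq

theorem ES.zc (h : ES Q z) {ζ : H} (h1 : ζ = 1 ∨ ζ = z) (g : H) : g * ζ = ζ * g := by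
  rcases h1 with rfl | rfl
  · simp
  · exact h.central g

theorem ES.zi (h : ES Q z) {ζ : H} (h1 : ζ = 1 ∨ ζ = z) : ζ⁻¹ = ζ := by
  rcases h1 with rfl | rfl
  · simp
  · exact inv_eq_of_mul_eq_one_right h.sq

theorem FPz.mul_left (h : ES Q z) {a b p₁ p₂ : H} (hfp : FPz Q z a b) (h₁ : p₁ ∈ Q) (h₂ : p₂ ∈ Q) :
    FPz Q z (p₁ * a) (p₂ * b) := by
  intro w hw
  obtain ⟨u, hu, v, hv, ζ, hζ, e⟩ := hfp w hw
  obtain ⟨ξ, hξ, e₁⟩ := h.conj_eq h₂ (h.conj_mem hu b)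
  obtain ⟨η, hη, e₂⟩ := h.conj_eq h₁ (h.conj_mem hv a)
  refine ⟨u, hu, v, hv, ξ * η * ζ, h.zz (h.zz hξ hη) hζ, ?_⟩
  have e₁' : p₂ * b * u * (p₂ * b)⁻¹ = b * u * b⁻¹ * ξ := by rw [← e₁]; group
  have e₂' : p₁ * a * v * (p₁ * a)⁻¹ = a * v * a⁻¹ * η := by rw [← e₂]; group
  rw [e₁', e₂', mul_inv_rev (b * u * b⁻¹) ξ, mul_inv_rev (a * v * a⁻¹) η, h.zi hξ, h.zi hη, e]
  have c₁ := h.zc hξ
  have c₂ := h.zc hη
  calc u * (b * u * b⁻¹)⁻¹ * (v * (a * v * a⁻¹)⁻¹) * ζ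
      = u * (b * u * b⁻¹)⁻¹ * (v * (a * v * a⁻¹)⁻¹) * (ξ * ξ⁻¹) * (η * η⁻¹) * ζ := by group
    _ = u * (b * u * b⁻¹)⁻¹ * (v * (a * v * a⁻¹)⁻¹) * (ξ * ξ) * (η * η) * ζ := by
        rw [h.zi hξ, h.zi hη]
    _ = u * (b * u * b⁻¹)⁻¹ * ((v * (a * v * a⁻¹)⁻¹) * ξ) * (ξ * η) * (η * ζ) := by group
    _ = u * (b * u * b⁻¹)⁻¹ * (ξ * (v * (a * v * a⁻¹)⁻¹)) * (η * ξ) * (η * ζ) := by
        rw [c₁ (v * (a * v * a⁻¹)⁻¹), c₁ η]
    _ = u * ((b * u * b⁻¹)⁻¹ * ξ) * (v * ((a * v * a⁻¹)⁻¹ * η)) * (ξ * η * ζ) := by group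
    _ = u * (ξ * (b * u * b⁻¹)⁻¹) * (v * (η * (a * v * a⁻¹)⁻¹)) * (ξ * η * ζ) := by
        rw [c₁ (b * u * b⁻¹)⁻¹, c₂ (a * v * a⁻¹)⁻¹]

/-- a packaging of `V = Q/⟨z⟩` with its form and the action of `H` -/
structure VData (Q : Subgroup H) (z : H) : Type (u + 1) where
  V : Type u
  [acg : AddCommGroup V]
  [mod : Module (ZMod 2) V]
  [fin : Finite V]
  cls : Q → V
  surj : Function.Surjective cls
  cls_mul : ∀ x y, cls (x * y) = cls x + cls y
  cls_eq : ∀ x y : Q, cls x = cls y ↔ ((y : H) = x ∨ (y : H) = x * z)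
  ω : LinearMap.BilinForm (ZMod 2) V
  ω_cls : ∀ x y : Q, ω (cls x) (cls y) = 0 ↔ (x : H) * y = y * x
  L : H → V ≃ₗ[ZMod 2] V
  L_cls : ∀ (g : H) (x y : Q), (y : H) = g * x * g⁻¹ → L g (cls x) = cls y

theorem ES.exists_vdata (h : ES Q z) [Finite Q] : Nonempty (VData Q z) := by
  classical
  have hn := h.normal
  let N : Subgroup Q := (Subgroup.zpowers z).subgroupOf Q
  have hN : ∀ x : Q, x ∈ N ↔ ((x : H) = 1 ∨ (x : H) = z) := by
    intro x
    rw [Subgroup.mem_subgroupOf, h.mem_zpowers]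
  have hNn : N.Normal := by
    have := h.normal_zpowers
    exact Subgroup.normal_subgroupOf
  let _ : CommGroup (Q ⧸ N) := { (inferInstance : Group (Q ⧸ N)) with
    mul_comm := by
      intro u v
      induction u using QuotientGroup.induction_on with | _ x => ?_
      induction v using QuotientGroup.induction_on with | _ y => ?_
      rw [← QuotientGroup.mk_mul, ← QuotientGroup.mk_mul, QuotientGroup.eq, hN]
      simp only [Subgroup.coe_mul, Subgroup.coe_inv]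
      rcases h.comm x x.2 y y.2 with e | e
      · left; rw [e]; group
      · right
        rw [e]
        have : ((y : H) * x * z)⁻¹ * (y * x) = z⁻¹ := by group
        rw [this]; exact h.zi (Or.inr rfl) }
  let V := Additive (Q ⧸ N)
  let mk : Q → V := fun x => Additive.ofMul (QuotientGroup.mk x)
  have hsurj : Function.Surjective mk := by
    intro v
    obtain ⟨x, hx⟩ := QuotientGroup.mk_surjective (Additive.toMul v)
    exact ⟨x, by show Additive.ofMul _ = v; rw [hx]; rfl⟩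
  have mk_mul : ∀ x y, mk (x * y) = mk x + mk y := fun x y => rfl
  have mk_eq : ∀ x y : Q, mk x = mk y ↔ ((y : H) = x ∨ (y : H) = x * z) := by
    intro x y
    have : mk x = mk y ↔ (QuotientGroup.mk x : Q ⧸ N) = QuotientGroup.mk y := Iff.rfl
    rw [this, QuotientGroup.eq, hN]
    simp only [Subgroup.coe_mul, Subgroup.coe_inv]
    constructor
    · rintro (e | e)
      · left; exact (inv_mul_eq_one.1 e).symm
      · right; rw [← e]; group
    · rintro (e | e)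
      · left; rw [e]; group
      · right; rw [e]; group
  have two : ∀ v : V, 2 • v = 0 := by
    intro v
    obtain ⟨x, rfl⟩ := hsurj v
    rw [two_nsmul, ← mk_mul]
    have h1 : mk (1 : Q) = 0 := rfl
    rw [← h1, mk_eq]
    simp only [Subgroup.coe_mul, Subgroup.coe_one]
    rcases h.pow x x.2 with e | e
    · left; exact e.symm
    · right; rw [e]; exact h.sq.symm
  let _ : Module (ZMod 2) V := AddCommGroup.zmodModule two
  -- the form
  let f : Q → Q → ZMod 2 := fun x y => if (x : H) * y = y * x then 0 else 1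
  have hf0 : ∀ x y : Q, f x y = 0 ↔ (x : H) * y = y * x := by
    intro x y
    by_cases e : (x : H) * y = y * x <;> simp [f, e]
  have hf1 : ∀ x y : Q, f x y = 1 ↔ (x : H) * y = y * x * z := by
    intro x y
    rcases h.comm x x.2 y y.2 with e | e
    · have : ¬ ((x : H) * y = y * x * z) := by
        rw [e]; intro h'; exact h.ne (by simpa using h'.symm)
      simp [f, e]
      intro h'
      exact h.ne h'
    · have : ¬ ((x : H) * y = y * x) := by
        rw [e]; intro h'; exact h.ne (by simpa using h')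
      simp [f, this, e]
      exact h.ne
  have fl : ∀ x x' y : Q, f (x * x') y = f x y + f x' y := by
    intro x x' y
    rcases h.comm x x.2 y y.2 with e | e <;> rcases h.comm x' x'.2 y y.2 with e' | e'
    · have e'' : ((x * x' : Q) : H) * y = y * (x * x' : Q) := by
        rw [Subgroup.coe_mul, mul_assoc, e', ← mul_assoc, e, mul_assoc]
      rw [(hf0 _ _).2 e'', (hf0 _ _).2 e, (hf0 _ _).2 e', add_zero]
    · have e'' : ((x * x' : Q) : H) * y = y * (x * x' : Q) * z := by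
        rw [Subgroup.coe_mul, mul_assoc, e', ← mul_assoc, ← mul_assoc, e]; group
      rw [(hf1 _ _).2 e'', (hf0 _ _).2 e, (hf1 _ _).2 e', zero_add]
    · have e'' : ((x * x' : Q) : H) * y = y * (x * x' : Q) * z := by
        rw [Subgroup.coe_mul, mul_assoc, e', ← mul_assoc, e, mul_assoc _ z, ← h.central]; group
      rw [(hf1 _ _).2 e'', (hf1 _ _).2 e, (hf0 _ _).2 e', add_zero]
    · have e'' : ((x * x' : Q) : H) * y = y * (x * x' : Q) := by
        have : (x : H) * x' * y = y * (x * x') * (z * z) := by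
          calc (x : H) * x' * y = x * (x' * y) := by group
            _ = (x * y) * (x' * z) := by rw [e']; group
            _ = y * x * (z * x') * z := by rw [e]; group
            _ = y * x * (x' * z) * z := by rw [h.central x']
            _ = _ := by group
        rw [Subgroup.coe_mul, this, h.sq, mul_one]
      rw [(hf0 _ _).2 e'', (hf1 _ _).2 e, (hf1 _ _).2 e']
      rfl
  have fs : ∀ x y : Q, f x y = f y x := by
    intro x y
    by_cases e : (x : H) * y = y * x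
    · rw [(hf0 x y).2 e, (hf0 y x).2 e.symm]
    · have e' : ¬ ((y : H) * x = x * y) := fun h' => e h'.symm
      simp [f, e, e']
  have fr : ∀ x y y' : Q, f x (y * y') = f x y + f x y' := by
    intro x y y'
    rw [fs, fl, fs y, fs y']
  have fN : ∀ n ∈ N, ∀ y : Q, f n y = 0 := by
    intro n hn y
    rw [hf0]
    rcases (hN n).1 hn with e | e
    · rw [e]; simp
    · rw [e, h.central]
  let Fq : Q → Q →* Multiplicative (ZMod 2) := fun x =>
    { toFun := fun y => Multiplicative.ofAdd (f x y)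
      map_one' := by
        show Multiplicative.ofAdd (f x 1) = Multiplicative.ofAdd 0
        rw [fs, fN 1 N.one_mem]
      map_mul' := fun y y' => by
        show Multiplicative.ofAdd (f x (y * y')) = Multiplicative.ofAdd (f x y + f x y')
        rw [fr] }
  have hFqN : ∀ x, N ≤ (Fq x).ker := by
    intro x n hn
    rw [MonoidHom.mem_ker]
    show Multiplicative.ofAdd (f x n) = Multiplicative.ofAdd 0
    rw [fs, fN n hn]
  let Fq' : Q → (Q ⧸ N) →* Multiplicative (ZMod 2) := fun x => QuotientGroup.lift N (Fq x) (hFqN x)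
  let FF : Q →* ((Q ⧸ N) →* Multiplicative (ZMod 2)) :=
    { toFun := Fq'
      map_one' := by
        apply QuotientGroup.monoidHom_ext
        ext y
        show Multiplicative.ofAdd (f 1 y) = Multiplicative.ofAdd 0
        rw [fN 1 N.one_mem]
      map_mul' := fun x x' => by
        apply QuotientGroup.monoidHom_ext
        ext y
        show Multiplicative.ofAdd (f (x * x') y) = Multiplicative.ofAdd (f x y + f x' y)
        rw [fl] }
  have hFFN : N ≤ FF.ker := by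
    intro n hn
    rw [MonoidHom.mem_ker]
    apply QuotientGroup.monoidHom_ext
    ext y
    show Multiplicative.ofAdd (f n y) = Multiplicative.ofAdd 0
    rw [fN n hn]
  let FF' : (Q ⧸ N) →* ((Q ⧸ N) →* Multiplicative (ZMod 2)) := QuotientGroup.lift N FF hFFN
  let w : V → V → ZMod 2 := fun v v' => Multiplicative.toAdd (FF' (Additive.toMul v) (Additive.toMul v'))
  have hw : ∀ x y, w (mk x) (mk y) = f x y := fun x y => rfl
  have c2 : ∀ c : ZMod 2, c = 0 ∨ c = 1 := by decide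
  have wl : ∀ u v v', w (u + v) v' = w u v' + w v v' := by
    intro u v v'
    obtain ⟨x, rfl⟩ := hsurj u
    obtain ⟨y, rfl⟩ := hsurj v
    obtain ⟨y', rfl⟩ := hsurj v'
    rw [← mk_mul, hw, hw, hw, fl]
  have wr : ∀ u v v', w u (v + v') = w u v + w u v' := by
    intro u v v'
    obtain ⟨x, rfl⟩ := hsurj u
    obtain ⟨y, rfl⟩ := hsurj v
    obtain ⟨y', rfl⟩ := hsurj v'
    rw [← mk_mul, hw, hw, hw, fr]
  have w0 : ∀ v, w 0 v = 0 := by
    intro v
    have := wl 0 0 v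
    rw [add_zero] at this
    have h2 : w 0 v + 0 = w 0 v + w 0 v := by rw [add_zero]; exact this
    exact (add_left_cancel h2).symm
  have w0' : ∀ v, w v 0 = 0 := by
    intro v
    have := wr v 0 0
    rw [add_zero] at this
    have h2 : w v 0 + 0 = w v 0 + w v 0 := by rw [add_zero]; exact this
    exact (add_left_cancel h2).symm
  let ω : LinearMap.BilinForm (ZMod 2) V := LinearMap.mk₂ (ZMod 2) w wl
    (by
      intro c u v
      rcases c2 c with rfl | rfl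
      · rw [zero_smul, zero_smul, w0]
      · rw [one_smul, one_smul])
    wr
    (by
      intro c u v
      rcases c2 c with rfl | rfl
      · rw [zero_smul, zero_smul, w0']
      · rw [one_smul, one_smul])
  -- the action
  have hmap : ∀ g : H, N.map (MulAut.conjNormal g : Q ≃* Q).toMonoidHom = N := by
    intro g
    have hz1 : ∀ x : H, (x = 1 ∨ x = z) → g * x * g⁻¹ = x := by
      intro x hx
      rw [h.zc hx g]; group
    apply le_antisymm
    · rintro _ ⟨x, hx, rfl⟩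
      have hx' := (hN x).1 hx
      rw [hN]
      have : (((MulAut.conjNormal g : Q ≃* Q).toMonoidHom x : Q) : H) = x := by
        show ((MulAut.conjNormal g x : Q) : H) = x
        rw [MulAut.conjNormal_apply]; exact hz1 _ hx'
      rw [this]; exact hx'
    · intro x hx
      have hx' := (hN x).1 hx
      refine ⟨x, hx, ?_⟩
      apply Subtype.ext
      show ((MulAut.conjNormal g x : Q) : H) = x
      rw [MulAut.conjNormal_apply]; exact hz1 _ hx'
  let Lm : H → (Q ⧸ N) ≃* (Q ⧸ N) := fun g => QuotientGroup.congr N N (MulAut.conjNormal g) (hmap g)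
  let La : H → V ≃+ V := fun g => MulEquiv.toAdditive (Lm g)
  let L : H → V ≃ₗ[ZMod 2] V := fun g => (La g).toLinearEquiv (fun c x => ZMod.map_smul (La g) c x)
  exact ⟨{
    V := V
    cls := mk
    surj := hsurj
    cls_mul := mk_mul
    cls_eq := mk_eq
    ω := ω
    ω_cls := fun x y => hf0 x y
    L := L
    L_cls := by
      intro g x y hy
      have : y = MulAut.conjNormal g x := Subtype.ext (by rw [hy, MulAut.conjNormal_apply])
      rw [this]
      rfl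
    fin := inferInstanceAs (Finite (Q ⧸ N)) }⟩

/-- **the extraspecial coset lemma** -/
theorem ES.step (h : ES Q z) [Finite Q] {a b c : H} (hfp : FPz Q z a b)
    (hc : c * (a * b * a⁻¹ * b⁻¹)⁻¹ ∈ Q)
    (hact : ∃ x ∈ Q, ¬ (c * x * c⁻¹ = x ∨ c * x * c⁻¹ = x * z)) :
    ∃ q₁ ∈ Q, ∃ q₂ ∈ Q, c = (q₁ * a) * (q₂ * b) * (q₁ * a)⁻¹ * (q₂ * b)⁻¹ := by
  classical
  obtain ⟨p₁, hp₁, p₂, hp₂, ζ, hζ, e⟩ := h.step_mod hfp hc
  rcases hζ with rfl | rfl
  · exact ⟨p₁, hp₁, p₂, hp₂, by rw [← e, mul_one]⟩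
  by_contra hno
  push Not at hno
  have hfp' : FPz Q ζ (p₁ * a) (p₂ * b) := hfp.mul_left h hp₁ hp₂
  obtain ⟨a₁, ha₁⟩ : ∃ a₁, a₁ = p₁ * a := ⟨_, rfl⟩
  obtain ⟨b₁, hb₁⟩ : ∃ b₁, b₁ = p₂ * b := ⟨_, rfl⟩
  have hno' : ∀ q₁ ∈ Q, ∀ q₂ ∈ Q,
      (q₁ * a₁) * (q₂ * b₁) * (q₁ * a₁)⁻¹ * (q₂ * b₁)⁻¹ ≠ c := by
    intro q₁ h₁ q₂ h₂ e'
    refine hno (q₁ * p₁) (Q.mul_mem h₁ hp₁) (q₂ * p₂) (Q.mul_mem h₂ hp₂) ?_
    rw [← e', ha₁, hb₁]; group
  rw [← ha₁, ← hb₁] at e hfp'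
  obtain ⟨c₁, hc₁⟩ : ∃ c₁, c₁ = a₁ * b₁ * a₁⁻¹ * b₁⁻¹ := ⟨_, rfl⟩
  obtain ⟨g, hg⟩ : ∃ g, g = a₁ * b₁ * a₁⁻¹ := ⟨_, rfl⟩
  rw [← hc₁] at e
  -- the function Φ
  let Φ : Q → Q → H := fun r₁ r₂ => r₁ * (a₁ * r₂ * a₁⁻¹) * (g * r₁ * g⁻¹)⁻¹ * (c₁ * r₂ * c₁⁻¹)⁻¹
  have hΦ : ∀ r₁ r₂ : Q, (r₁ * a₁) * (r₂ * b₁) * (r₁ * a₁)⁻¹ * (r₂ * b₁)⁻¹ = Φ r₁ r₂ * c₁ := by
    intro r₁ r₂
    show _ = r₁ * (a₁ * r₂ * a₁⁻¹) * (g * r₁ * g⁻¹)⁻¹ * (c₁ * r₂ * c₁⁻¹)⁻¹ * c₁
    rw [hc₁, hg]; group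
  have hΦ1 : ∀ r₁ r₂ : Q, (Φ r₁ r₂ = 1 ∨ Φ r₁ r₂ = ζ) → Φ r₁ r₂ = 1 := by
    intro r₁ r₂ h'
    rcases h' with h' | h'
    · exact h'
    · exfalso
      refine hno' r₁ r₁.2 r₂ r₂.2 ?_
      rw [hΦ, h', ← e, h.central c, ← mul_assoc, h.sq, one_mul]
  obtain ⟨D⟩ := h.exists_vdata
  let _ := D.acg
  let _ := D.mod
  have hfin := D.fin
  have : FiniteDimensional (ZMod 2) D.V := Module.Finite.of_finite
  -- conjugation inside Q
  let K : H → Q → Q := fun g x => ⟨g * x * g⁻¹, h.conj_mem x.2 g⟩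
  have hL : ∀ g x, D.L g (D.cls x) = D.cls (K g x) := fun g x => D.L_cls g x _ rfl
  have c2 : ∀ c : ZMod 2, c = 0 ∨ c = 1 := by decide
  have ceq : ∀ s t : ZMod 2, (s = 0 ↔ t = 0) → s = t := by decide
  have hs : ∀ x y, D.ω x y = D.ω y x := by
    intro u v
    obtain ⟨x, rfl⟩ := D.surj u
    obtain ⟨y, rfl⟩ := D.surj v
    apply ceq
    rw [D.ω_cls, D.ω_cls]
    exact eq_comm
  have hnd : D.ω.Nondegenerate := by
    have key : ∀ u, (∀ v, D.ω u v = 0) → u = 0 := by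
      intro u hu
      obtain ⟨x, rfl⟩ := D.surj u
      have h1 := h.nd x x.2 (fun y hy => by
        have := hu (D.cls ⟨y, hy⟩)
        rwa [D.ω_cls] at this)
      have h0 : D.cls 1 = 0 := by
        have := D.cls_mul 1 1
        rw [mul_one] at this
        have h2 : D.cls 1 + 0 = D.cls 1 + D.cls 1 := by rw [add_zero]; exact this
        exact (add_left_cancel h2).symm
      rw [← h0, eq_comm, D.cls_eq]
      simpa using h1
    refine ⟨key, fun v hv => key v (fun u => by rw [hs]; exact hv u)⟩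
  have hiso : ∀ g x y, D.ω (D.L g x) (D.L g y) = D.ω x y := by
    intro g u v
    obtain ⟨x, rfl⟩ := D.surj u
    obtain ⟨y, rfl⟩ := D.surj v
    apply ceq
    rw [hL, hL, D.ω_cls, D.ω_cls]
    constructor
    · intro e'
      have e'' : g * ((x : H) * y) * g⁻¹ = g * (y * x) * g⁻¹ := by
        calc g * ((x : H) * y) * g⁻¹ = (K g x : H) * (K g y : H) := by
              show _ = (g * x * g⁻¹) * (g * y * g⁻¹); group
          _ = (K g y : H) * (K g x : H) := e'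
          _ = _ := by show (g * y * g⁻¹) * (g * x * g⁻¹) = _; group
      exact mul_left_cancel (mul_right_cancel e'')
    · intro e'
      show (g * x * g⁻¹) * (g * y * g⁻¹) = (g * y * g⁻¹) * (g * x * g⁻¹)
      calc (g * (x : H) * g⁻¹) * (g * y * g⁻¹) = g * (x * y) * g⁻¹ := by group
        _ = g * (y * x) * g⁻¹ := by rw [e']
        _ = _ := by group
  have hLm : ∀ g k l, (∀ x : H, g * (k * x * k⁻¹) * g⁻¹ = l * x * l⁻¹) →
      ∀ v, D.L g (D.L k v) = D.L l v := by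
    intro g k l hk v
    obtain ⟨x, rfl⟩ := D.surj v
    rw [hL, hL, hL]
    congr 1
    exact Subtype.ext (hk x)
  have hsum : ∀ r₁ r₂ : Q, ∀ h' : Φ r₁ r₂ ∈ Q,
      D.cls ⟨Φ r₁ r₂, h'⟩ = D.cls r₁ + D.L g (D.cls r₁)
        + (D.L a₁ (D.cls r₂) + D.L c₁ (D.cls r₂)) := by
    intro r₁ r₂ h'
    have hinv : ∀ x : Q, D.cls x⁻¹ = D.cls x := by
      intro x
      rw [D.cls_eq]
      rcases h.pow x x.2 with e' | e'
      · left
        exact (inv_eq_of_mul_eq_one_right e').symm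
      · right
        have : (x : H)⁻¹ * x * x = (x : H)⁻¹ * ζ := by rw [mul_assoc, e']
        simpa using this
    have e1 : (⟨Φ r₁ r₂, h'⟩ : Q) = r₁ * K a₁ r₂ * (K g r₁)⁻¹ * (K c₁ r₂)⁻¹ := Subtype.ext rfl
    rw [e1, D.cls_mul, D.cls_mul, D.cls_mul, hinv, hinv, hL, hL, hL]
    abel
  have hmem : ∀ r₁ r₂ : Q, Φ r₁ r₂ ∈ Q := by
    intro r₁ r₂
    exact (r₁ * K a₁ r₂ * (K g r₁)⁻¹ * (K c₁ r₂)⁻¹).2
  have hone : ∀ r₁ r₂ : Q, D.cls r₁ + D.L g (D.cls r₁)
        + (D.L a₁ (D.cls r₂) + D.L c₁ (D.cls r₂)) = 0 → Φ r₁ r₂ = 1 := by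
    intro r₁ r₂ h0
    apply hΦ1
    rw [← hsum r₁ r₂ (hmem r₁ r₂)] at h0
    have h00 : D.cls 1 = 0 := by
      have := D.cls_mul 1 1
      rw [mul_one] at this
      have h2 : D.cls 1 + 0 = D.cls 1 + D.cls 1 := by rw [add_zero]; exact this
      exact (add_left_cancel h2).symm
    rw [← h00, eq_comm, D.cls_eq] at h0
    simpa using h0
  have hγ := rank_lemma D.ω hnd hs (D.L a₁) (D.L b₁) (D.L g) (D.L c₁) (hiso a₁) (hiso g) (hiso c₁)
    (fun x => (hLm g a₁ (a₁ * b₁) (fun x => by rw [hg]; group) x).trans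
      (hLm a₁ b₁ (a₁ * b₁) (fun x => by group) x).symm)
    (fun x => hLm c₁ b₁ g (fun x => by rw [hc₁, hg]; group) x)
    (by
      intro w
      obtain ⟨y, rfl⟩ := D.surj w
      obtain ⟨q₁, h₁, q₂, h₂, ξ, hξ, e'⟩ := h.step_mod (a := a₁) (b := b₁) (c := y * c₁) hfp'
        (by rw [← hc₁, mul_assoc, mul_inv_cancel, mul_one]; exact y.2)
      refine ⟨D.cls ⟨q₁, h₁⟩, D.cls ⟨q₂, h₂⟩, ?_⟩
      rw [← hsum ⟨q₁, h₁⟩ ⟨q₂, h₂⟩ (hmem _ _)]
      have e'' : Φ ⟨q₁, h₁⟩ ⟨q₂, h₂⟩ * c₁ = y * ξ * c₁ := by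
        rw [← hΦ]
        show q₁ * a₁ * (q₂ * b₁) * (q₁ * a₁)⁻¹ * (q₂ * b₁)⁻¹ = _
        rw [← e', mul_assoc, mul_assoc, h.zc hξ c₁]
      have e3 : Φ ⟨q₁, h₁⟩ ⟨q₂, h₂⟩ = y * ξ := mul_right_cancel e''
      rw [eq_comm, D.cls_eq]
      show Φ ⟨q₁, h₁⟩ ⟨q₂, h₂⟩ = y ∨ Φ ⟨q₁, h₁⟩ ⟨q₂, h₂⟩ = y * ζ
      rw [e3]
      rcases hξ with rfl | rfl
      · left; simp
      · right; rfl)
    (by
      intro u₁ u₂ v₁ v₂ hu hv
      obtain ⟨r₁, rfl⟩ := D.surj u₁
      obtain ⟨r₂, rfl⟩ := D.surj u₂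
      obtain ⟨q₁, rfl⟩ := D.surj v₁
      obtain ⟨q₂, rfl⟩ := D.surj v₂
      have o1 := hone r₁ r₂ hu
      have o2 := hone q₁ q₂ hv
      have o3 : Φ (q₁ * r₁) (q₂ * r₂) = 1 := by
        apply hone
        rw [D.cls_mul, D.cls_mul]
        simp only [map_add]
        have : (D.cls q₁ + D.cls r₁) + (D.L g (D.cls q₁) + D.L g (D.cls r₁))
            + (D.L a₁ (D.cls q₂) + D.L a₁ (D.cls r₂) + (D.L c₁ (D.cls q₂) + D.L c₁ (D.cls r₂)))
            = (D.cls q₁ + D.L g (D.cls q₁) + (D.L a₁ (D.cls q₂) + D.L c₁ (D.cls q₂)))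
            + (D.cls r₁ + D.L g (D.cls r₁) + (D.L a₁ (D.cls r₂) + D.L c₁ (D.cls r₂))) := by abel
        rw [this, hu, hv, add_zero]
      -- x = q, y = r
      obtain ⟨x₁, hx₁⟩ : ∃ t, t = (q₁ : H) := ⟨_, rfl⟩
      obtain ⟨x₂, hx₂⟩ : ∃ t, t = a₁ * (q₂ : H) * a₁⁻¹ := ⟨_, rfl⟩
      obtain ⟨x₃, hx₃⟩ : ∃ t, t = g * (q₁ : H) * g⁻¹ := ⟨_, rfl⟩
      obtain ⟨x₄, hx₄⟩ : ∃ t, t = c₁ * (q₂ : H) * c₁⁻¹ := ⟨_, rfl⟩
      obtain ⟨y₁, hy₁⟩ : ∃ t, t = (r₁ : H) := ⟨_, rfl⟩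
      obtain ⟨y₂, hy₂⟩ : ∃ t, t = a₁ * (r₂ : H) * a₁⁻¹ := ⟨_, rfl⟩
      obtain ⟨y₃, hy₃⟩ : ∃ t, t = g * (r₁ : H) * g⁻¹ := ⟨_, rfl⟩
      obtain ⟨y₄, hy₄⟩ : ∃ t, t = c₁ * (r₂ : H) * c₁⁻¹ := ⟨_, rfl⟩
      have p1 : y₁ * y₂ = y₄ * y₃ := by
        have : y₁ * y₂ * y₃⁻¹ * y₄⁻¹ = 1 := by rw [hy₁, hy₂, hy₃, hy₄]; exact o1
        calc y₁ * y₂ = (y₁ * y₂ * y₃⁻¹ * y₄⁻¹) * y₄ * y₃ := by group
          _ = _ := by rw [this, one_mul]
      have p2 : x₁ * x₂ = x₄ * x₃ := by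
        have : x₁ * x₂ * x₃⁻¹ * x₄⁻¹ = 1 := by rw [hx₁, hx₂, hx₃, hx₄]; exact o2
        calc x₁ * x₂ = (x₁ * x₂ * x₃⁻¹ * x₄⁻¹) * x₄ * x₃ := by group
          _ = _ := by rw [this, one_mul]
      have p3 : x₁ * y₁ * (x₂ * y₂) = (x₄ * y₄) * (x₃ * y₃) := by
        have : x₁ * y₁ * (x₂ * y₂) * (x₃ * y₃)⁻¹ * (x₄ * y₄)⁻¹ = 1 := by
          have o4 : ((q₁ * r₁ : Q) : H) * (a₁ * ((q₂ * r₂ : Q) : H) * a₁⁻¹)
            * (g * ((q₁ * r₁ : Q) : H) * g⁻¹)⁻¹ * (c₁ * ((q₂ * r₂ : Q) : H) * c₁⁻¹)⁻¹ = 1 := o3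
          rw [Subgroup.coe_mul, Subgroup.coe_mul] at o4
          rw [hx₁, hx₂, hx₃, hx₄, hy₁, hy₂, hy₃, hy₄, ← o4]; group
        calc x₁ * y₁ * (x₂ * y₂)
            = (x₁ * y₁ * (x₂ * y₂) * (x₃ * y₃)⁻¹ * (x₄ * y₄)⁻¹) * (x₄ * y₄) * (x₃ * y₃) := by group
          _ = _ := by rw [this, one_mul]
      have m1 : y₁ ∈ Q := by rw [hy₁]; exact r₁.2
      have m2 : x₂ ∈ Q := by rw [hx₂]; exact h.conj_mem q₂.2 a₁
      have m3 : y₄ ∈ Q := by rw [hy₄]; exact h.conj_mem r₂.2 c₁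
      have m4 : x₃ ∈ Q := by rw [hx₃]; exact h.conj_mem q₁.2 g
      -- y₁ x₂ vs y₄ x₃
      have cc : (y₁ * x₂ = x₂ * y₁) ↔ (y₄ * x₃ = x₃ * y₄) := by
        constructor
        · intro e1
          have : x₁ * (y₁ * x₂) * y₂ = x₄ * (y₄ * x₃) * y₃ := by
            calc x₁ * (y₁ * x₂) * y₂ = x₁ * y₁ * (x₂ * y₂) := by group
              _ = (x₄ * y₄) * (x₃ * y₃) := p3
              _ = _ := by group
          have e2 : x₄ * (y₄ * x₃) * y₃ = x₄ * (x₃ * y₄) * y₃ := by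
            rw [← this, e1]
            calc x₁ * (x₂ * y₁) * y₂ = (x₁ * x₂) * (y₁ * y₂) := by group
              _ = (x₄ * x₃) * (y₄ * y₃) := by rw [p1, p2]
              _ = _ := by group
          exact mul_left_cancel (mul_right_cancel e2)
        · intro e1
          have : x₁ * (y₁ * x₂) * y₂ = x₄ * (y₄ * x₃) * y₃ := by
            calc x₁ * (y₁ * x₂) * y₂ = x₁ * y₁ * (x₂ * y₂) := by group
              _ = (x₄ * y₄) * (x₃ * y₃) := p3
              _ = _ := by group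
          have e2 : x₁ * (y₁ * x₂) * y₂ = x₁ * (x₂ * y₁) * y₂ := by
            rw [this, e1]
            calc x₄ * (x₃ * y₄) * y₃ = (x₄ * x₃) * (y₄ * y₃) := by group
              _ = (x₁ * x₂) * (y₁ * y₂) := by rw [p1, p2]
              _ = _ := by group
          exact mul_left_cancel (mul_right_cancel e2)
      have e5 : D.ω (D.cls r₁) (D.L a₁ (D.cls q₂)) = D.ω (D.L g (D.cls q₁)) (D.L c₁ (D.cls r₂)) := by
        apply ceq
        rw [hL, hL, hL, D.ω_cls, D.ω_cls]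
        have t1 : ((K a₁ q₂ : Q) : H) = x₂ := hx₂.symm
        have t2 : ((K g q₁ : Q) : H) = x₃ := hx₃.symm
        have t3 : ((K c₁ r₂ : Q) : H) = y₄ := hy₄.symm
        rw [t1, t2, t3, ← hy₁, cc]
        exact eq_comm
      rw [e5]
      rcases c2 (D.ω (D.L g (D.cls q₁)) (D.L c₁ (D.cls r₂))) with h0 | h0
      · rw [h0]; rfl
      · rw [h0]; rfl)
  -- conclusion
  obtain ⟨x, hx, hne⟩ := hact
  apply hne
  have h1 := hγ (D.cls ⟨x, hx⟩)
  rw [hL, eq_comm, D.cls_eq] at h1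
  have h2 : ((K c₁ ⟨x, hx⟩ : Q) : H) = c * x * c⁻¹ := by
    show c₁ * x * c₁⁻¹ = _
    rw [← e]
    calc c * ζ * x * (c * ζ)⁻¹ = c * (ζ * x * ζ⁻¹) * c⁻¹ := by group
      _ = c * x * c⁻¹ := by rw [← h.central x]; group
  rwa [h2] at h1

/-- **the extraspecial coset lemma along a surjection** -/
theorem ES.lift {K : Type*} [Group K] (π : H →* K) (h : ES π.ker z) [Finite π.ker] {a b c : H}
    (hfp : FPz π.ker z a b) (hc : π c = π a * π b * (π a)⁻¹ * (π b)⁻¹)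
    (hact : ∃ x ∈ π.ker, ¬ (c * x * c⁻¹ = x ∨ c * x * c⁻¹ = x * z)) :
    ∃ a' b' : H, π a' = π a ∧ π b' = π b ∧ c = a' * b' * a'⁻¹ * b'⁻¹ := by
  have h1 : c * (a * b * a⁻¹ * b⁻¹)⁻¹ ∈ π.ker := by
    rw [MonoidHom.mem_ker, map_mul, hc, map_inv]
    simp
  obtain ⟨q₁, h₁, q₂, h₂, e⟩ := h.step hfp h1 hact
  refine ⟨q₁ * a, q₂ * b, ?_, ?_, e⟩
  · rw [map_mul, (MonoidHom.mem_ker).1 h₁, one_mul]
  · rw [map_mul, (MonoidHom.mem_ker).1 h₂, one_mul]

/-- `a` without fixed point on `V = Q/⟨z⟩` -/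
theorem FPz.of_left (h : ES Q z) [Finite Q] {a : H} (b : H)
    (hfix : ∀ x ∈ Q, (a * x * a⁻¹ = x ∨ a * x * a⁻¹ = x * z) → x = 1 ∨ x = z) :
    FPz Q z a b := by
  obtain ⟨D⟩ := h.exists_vdata
  let _ := D.acg
  let _ := D.mod
  have hfin := D.fin
  have hLc : ∀ x : Q, D.L a (D.cls x) = D.cls ⟨a * x * a⁻¹, h.conj_mem x.2 a⟩ :=
    fun x => D.L_cls a x _ rfl
  have h0 : D.cls 1 = 0 := by
    have := D.cls_mul 1 1
    rw [mul_one] at this
    have h2 : D.cls 1 + 0 = D.cls 1 + D.cls 1 := by rw [add_zero]; exact this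
    exact (add_left_cancel h2).symm
  have hinv : ∀ x : Q, D.cls x⁻¹ = D.cls x := by
    intro x
    rw [D.cls_eq]
    rcases h.pow x x.2 with e' | e'
    · left
      exact (inv_eq_of_mul_eq_one_right e').symm
    · right
      have : (x : H)⁻¹ * x * x = (x : H)⁻¹ * z := by rw [mul_assoc, e']
      simpa using this
  have hinj : Function.Injective (fun v : D.V => v - D.L a v) := by
    have key : ∀ v, v - D.L a v = 0 → v = 0 := by
      intro v hv
      obtain ⟨x, rfl⟩ := D.surj v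
      have h1 : D.cls x = D.L a (D.cls x) := sub_eq_zero.1 hv
      rw [hLc, D.cls_eq] at h1
      rw [← h0, eq_comm, D.cls_eq]
      simpa using hfix x x.2 h1
    intro u v huv
    have h1 : (u - v) - D.L a (u - v) = 0 := by
      rw [map_sub]
      have : u - v - (D.L a u - D.L a v) = (u - D.L a u) - (v - D.L a v) := by abel
      rw [this]
      exact sub_eq_zero.2 huv
    exact sub_eq_zero.1 (key _ h1)
  have hsurj := Finite.surjective_of_injective hinj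
  intro w hw
  obtain ⟨t, ht⟩ := hsurj (D.cls ⟨w, hw⟩)
  obtain ⟨v, rfl⟩ := D.surj t
  have h2 : D.cls (v * (⟨a * v * a⁻¹, h.conj_mem v.2 a⟩ : Q)⁻¹) = D.cls ⟨w, hw⟩ := by
    rw [D.cls_mul, hinv, ← hLc, ← ht]
    have two : ∀ x : D.V, x + x = 0 := by
      intro x
      have : (2 : ZMod 2) • x = 0 := by
        rw [show (2 : ZMod 2) = 0 from rfl, zero_smul]
      rwa [two_smul] at this
    show _ = D.cls v - D.L a (D.cls v)
    rw [sub_eq_add_neg]
    congr 1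
    rw [eq_neg_iff_add_eq_zero]
    exact two _
  rw [D.cls_eq] at h2
  have h3 : w = v * (a * v * a⁻¹)⁻¹ ∨ w = v * (a * v * a⁻¹)⁻¹ * z := h2
  rcases h3 with h3 | h3
  · exact ⟨1, Q.one_mem, v, v.2, 1, Or.inl rfl, by rw [h3]; group⟩
  · refine ⟨1, Q.one_mem, v, v.2, z, Or.inr rfl, ?_⟩
    rw [h3]; group

/-- **T6** the noncentral elements of `Q` if `a` has no fixed point on `Q/⟨z⟩` -/
theorem ES.isComm_of_mem (h : ES Q z) [Finite Q] {a : H}
    (hfix : ∀ x ∈ Q, (a * x * a⁻¹ = x ∨ a * x * a⁻¹ = x * z) → x = 1 ∨ x = z)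
    {q : H} (hq : q ∈ Q) (hne : ¬ (q = 1 ∨ q = z)) : IsComm q := by
  obtain ⟨q₁, h₁, q₂, h₂, ζ, hζ, e⟩ := h.step_mod (a := a) (b := 1) (c := q)
    (FPz.of_left h 1 hfix) (by simpa using hq)
  rcases hζ with rfl | rfl
  · rw [mul_one] at e
    exact ⟨_, _, e⟩
  · have : ∃ y ∈ Q, ¬ (q * y = y * q) := by
      by_contra hno
      push Not at hno
      exact hne (h.nd q hq hno)
    obtain ⟨y, hy, hyq⟩ := this
    have e2 : q * y = y * q * ζ := (h.comm q hq y hy).resolve_left hyq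
    have e3 : y⁻¹ * (q * ζ) * y = q := by
      calc y⁻¹ * (q * ζ) * y = y⁻¹ * (q * (ζ * y)) := by group
        _ = y⁻¹ * (q * y * ζ) := by rw [← h.central y]; group
        _ = y⁻¹ * (y * q * ζ * ζ) := by rw [e2]
        _ = q * (ζ * ζ) := by group
        _ = q := by rw [h.sq, mul_one]
    have h4 : IsComm (y⁻¹ * (q * ζ) * (y⁻¹)⁻¹) := (IsComm.conj ⟨_, _, e⟩ y⁻¹)
    rwa [inv_inv, e3] at h4

end Cfsg.Agent.H6.ORE
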