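import Cfsg.Agent.H6.ORE.LargeOre
import Cfsg.Agent.MonsterU.Chart

/-!
# Commutators in a group with a chart `2^(1+24)`, `Co1` (helper6)

`Ch.Chart Q z eta pi` in a finite group `M`.  An element `g` of `C_M(z)` is a commutator if `pi g = [a₀, b₀] ≠ 1` and some
element of `⟨a₀, b₀⟩` has no fixed point on `Λ/2Λ` (`isComm_of_pi`); the elements of `Q` are commutators if some element of
`Co1` has no fixed point (`isComm_of_mem`).  `two` : the 2-elements of `M` if the index of `C_M(z)` is odd and the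
2-elements of `Co1` are such commutators.
-/

set_option autoImplicit false

namespace Cfsg.Agent.H6.ORE

open Cfsg Cfsg.Spor Cfsg.Agent.MonsterU.Lam2 Cfsg.Agent.MonsterU
open Cfsg.Agent.KFacts.LargeO2 (mem_of_triv)

section chart

variable {M : Type*} [Group M] {Q : Subgroup M} {z : M} {eta : M → L2}
  {pi : Subgroup.centralizer ({z} : Set M) →* Co1}

theorem fix_iff (h : Ch.Chart Q z eta pi) (c : CZ z) {x : M} (hx : x ∈ Q)
    (hc : (c : M) * x * (c : M)⁻¹ = x ∨ (c : M) * x * (c : M)⁻¹ = x * z) : pi c • eta x = eta x := by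
  rw [← h.eta_conj c x hx]
  rcases hc with e | e
  · rw [e]
  · rw [e, h.eta_mul x hx z h.large.z_mem, h.eta_z, add_zero]

theorem isComm_of_pi (h : Ch.Chart Q z eta pi) {g : CZ z} (hg : pi g ≠ 1) {a₀ b₀ : Co1}
    (e : pi g = a₀ * b₀ * a₀⁻¹ * b₀⁻¹) {y : Co1} (hy : y ∈ Subgroup.closure ({a₀, b₀} : Set Co1))
    (hfix : ∀ v : L2, y • v = v → v = 0) : IsComm (g : M) := by
  have hE := es_of_large h.large
  have hfinQ := h.fin
  have hfin : Finite (Q.subgroupOf (CZ z)) := by
    refine Finite.of_injective (fun x : Q.subgroupOf (CZ z) => (⟨(x : CZ z), x.2⟩ : Q)) fun x y e => ?_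
    have e' : ((x : CZ z) : M) = ((y : CZ z) : M) := congrArg (fun t : Q => (t : M)) e
    exact Subtype.ext (Subtype.ext e')
  obtain ⟨a, rfl⟩ := h.pi_surj a₀
  obtain ⟨b, rfl⟩ := h.pi_surj b₀
  have hfp : FPz (Q.subgroupOf (CZ z)) (zC z) a b := by
    apply FPz.of_fix hE
    intro x hx hxa hxb
    have hxQ : (x : M) ∈ Q := hx
    have h1 := fix_iff h a hxQ (hxa.imp (congrArg Subtype.val) (congrArg Subtype.val))
    have h2 := fix_iff h b hxQ (hxb.imp (congrArg Subtype.val) (congrArg Subtype.val))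
    have h3 : Subgroup.closure ({pi a, pi b} : Set Co1) ≤ MulAction.stabilizer Co1 (eta (x : M)) := by
      rw [Subgroup.closure_le]
      rintro _ (rfl | rfl)
      · exact h1
      · exact h2
    have h4 := hfix _ (h3 hy)
    rcases (h.eta_zero _ hxQ).1 h4 with h5 | h5
    · exact Or.inl (Subtype.ext h5)
    · exact Or.inr (Subtype.ext h5)
  have hgQ : (g : M) ∉ Q := fun hh => hg ((h.pi_eq_one g).2 hh)
  obtain ⟨q₁, -, q₂, -, e'⟩ := hE.step hfp (c := g) (by
    show ((g * (a * b * a⁻¹ * b⁻¹)⁻¹ : CZ z) : M) ∈ Q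
    rw [← h.pi_eq_one, map_mul, e]
    simp) (by
    by_contra hno
    push Not at hno
    apply hgQ
    apply mem_of_triv h.large (Subgroup.mem_centralizer_singleton_iff.1 g.2)
    intro y hy
    have hyC : y ∈ CZ z := Subgroup.mem_centralizer_singleton_iff.2 (h.large.comm_z y hy)
    exact (hno ⟨y, hyC⟩ hy).imp (congrArg Subtype.val) (congrArg Subtype.val))
  exact ⟨_, _, congrArg Subtype.val e'⟩

theorem isComm_of_mem (h : Ch.Chart Q z eta pi) {p : Co1} (hfix : ∀ v : L2, p • v = v → v = 0) {q : M}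
    (hq : q ∈ Q) : IsComm q := by
  have hE := es_of_large h.large
  have hfinQ := h.fin
  have hfin : Finite (Q.subgroupOf (CZ z)) := by
    refine Finite.of_injective (fun x : Q.subgroupOf (CZ z) => (⟨(x : CZ z), x.2⟩ : Q)) fun x y e => ?_
    have e' : ((x : CZ z) : M) = ((y : CZ z) : M) := congrArg (fun t : Q => (t : M)) e
    exact Subtype.ext (Subtype.ext e')
  by_cases h1 : q = 1
  · rw [h1]; exact IsComm.one
  by_cases hz : q = z
  · -- two elements of `Q` which do not commute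
    have hno : ∃ x ∈ Q, ∃ y ∈ Q, x * y ≠ y * x := by
      by_contra hcon
      push Not at hcon
      obtain ⟨x, hx, hxv⟩ := h.eta_surj (cl Ch.lA)
      have h2 := h.large.cent x hx (fun y hy => hcon x hx y hy)
      have h3 := (h.eta_zero x hx).2 h2
      rw [hxv] at h3
      have h4 : bf (cl Ch.lA) (cl Ch.lB) = 0 := by rw [h3, bf_zero_left]
      rw [bf_cl_eq_zero] at h4
      have h5 : dotInt (Ch.lA : GolayPt → ℤ) (Ch.lB : GolayPt → ℤ) = 8 := by
        show dotInt Ch.vA Ch.vB = 8; decide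
      rw [h5] at h4
      norm_num at h4
    obtain ⟨x, hx, y, hy, hxy⟩ := hno
    have h2 := (h.large.comm x hx y hy).resolve_left hxy
    refine ⟨x, y, ?_⟩
    rw [hz]
    have h3 := h.large.comm_z x⁻¹ (Q.inv_mem hx)
    have h4 := h.large.comm_z y⁻¹ (Q.inv_mem hy)
    calc z = y * x * x⁻¹ * y⁻¹ * z := by group
      _ = y * x * x⁻¹ * (y⁻¹ * z) := by group
      _ = y * x * x⁻¹ * (z * y⁻¹) := by rw [h4]
      _ = y * x * (x⁻¹ * z) * y⁻¹ := by group
      _ = y * x * (z * x⁻¹) * y⁻¹ := by rw [h3]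
      _ = (y * x * z) * x⁻¹ * y⁻¹ := by group
      _ = x * y * x⁻¹ * y⁻¹ := by rw [← h2]
  · obtain ⟨a, rfl⟩ := h.pi_surj p
    have hqC : q ∈ CZ z := Subgroup.mem_centralizer_singleton_iff.2 (h.large.comm_z q hq)
    have h2 : IsComm (⟨q, hqC⟩ : CZ z) := by
      apply hE.isComm_of_mem (a := a) (q := ⟨q, hqC⟩)
      · intro x hx hxa
        have hxQ : (x : M) ∈ Q := hx
        have h3 := hfix _ (fix_iff h a hxQ (hxa.imp (congrArg Subtype.val) (congrArg Subtype.val)))
        exact ((h.eta_zero _ hxQ).1 h3).imp (fun e => Subtype.ext e) (fun e => Subtype.ext e)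
      · exact hq
      · rintro (e | e)
        · exact h1 (congrArg Subtype.val e)
        · exact hz (congrArg Subtype.val e)
    exact h2.map (CZ z).subtype

/-- **the 2-elements of a group with a chart of odd index** -/
theorem two_of_chart [Finite M] (h : Ch.Chart Q z eta pi) (hodd : Odd (CZ z).index)
    (hA : ∀ x : Co1, x ≠ 1 → (∃ k : ℕ, orderOf x = 2 ^ k) → ∃ a b : Co1, x = a * b * a⁻¹ * b⁻¹ ∧
      ∃ y ∈ Subgroup.closure ({a, b} : Set Co1), ∀ v : L2, y • v = v → v = 0)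
    {p : Co1} (hfix : ∀ v : L2, p • v = v → v = 0) (g : M) (hg : ∃ k : ℕ, orderOf g = 2 ^ k) : IsComm g := by
  obtain ⟨u, hu⟩ := exists_conj_mem hodd hg
  have hkey : IsComm (u * g * u⁻¹) := by
    let g' : CZ z := ⟨u * g * u⁻¹, hu⟩
    by_cases h1 : pi g' = 1
    · exact isComm_of_mem h hfix ((h.pi_eq_one g').1 h1)
    · obtain ⟨k, hk⟩ := hg
      have ho : orderOf g' = 2 ^ k := by
        rw [← Subgroup.orderOf_coe, ← hk]
        show orderOf (u * g * u⁻¹) = orderOf g
        rw [show u * g * u⁻¹ = MulAut.conj u g from rfl, MulEquiv.orderOf_eq]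
      have h2 : orderOf (pi g') ∣ 2 ^ k := by rw [← ho]; exact orderOf_map_dvd pi g'
      obtain ⟨j, -, hj⟩ := (Nat.dvd_prime_pow Nat.prime_two).1 h2
      obtain ⟨a, b, e, y, hy, hfy⟩ := hA _ h1 ⟨j, hj⟩
      exact isComm_of_pi h h1 e hy hfy
  have h3 := hkey.conj u⁻¹
  rwa [show u⁻¹ * (u * g * u⁻¹) * u⁻¹⁻¹ = g by group] at h3

end chart

end Cfsg.Agent.H6.ORE
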