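import Cfsg.Agent.H6.ORE.LargeOre
import Cfsg.Agent.H812.CoFiveData
import Cfsg.Agent.H813.CoLarge

/-!
# Commutators of `Co1` with an element without fixed points on `Λ/2Λ` (helper6, S2443)

`z` an octad involution of `Co1`, `C(z) = 2^(1+8).Ω⁺(8,2)`.  Assume that every nontrivial element of `Ω⁺(8,2)` is
a commutator of two generators (`OreO8`).

* `in_cent` : every `x ≠ 1` of `C(z)` is `[a, b]` such that `⟨a, b⟩` contains an element of order five without
  fixed points on `Λ/2Λ`;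
* `two_co1` : the same for all 2-elements `x ≠ 1` of `Co1`.
-/

set_option autoImplicit false

namespace Cfsg.Agent.H6.ORE.CoOne

open Cfsg Cfsg.Agent.H6.ORE Cfsg.Agent.CoOneNWC.OmFacts
open Cfsg.Agent.KFacts.Co1.InCo1 (RCo1)
open Cfsg.Agent.CoOneType.GenCrit (c0 m0)
open Cfsg.Agent.H812.CoFiveData (z p1 p2 wt_c0)
open Cfsg.Agent.StdG24.ExCent (wt_oM)
open Cfsg.Agent.MonsterU.Lam2 (L2)
open Cfsg.Agent.LThreeMB (fr)

/-- every nontrivial element of `Ω⁺(8,2)` is a commutator of two generators -/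
def OreO8 : Prop := ∀ l : Om8, l ≠ 1 → ∃ a b : Om8, a * b * a⁻¹ * b⁻¹ = l ∧ Subgroup.closure ({a, b} : Set Om8) = ⊤

/-- `Q` for the involution of `ExInst` -/
abbrev QM : Subgroup Spor.Co1 := StdG24.ExInst.Q

/-- the involution of `ExInst` -/
noncomputable abbrev zM : Spor.Co1 := StdG24.ExInst.z

theorem fin : Finite Spor.Co1 := H812.CoFiveData.finite_co1

theorem isConj_z : IsConj z zM := by
  rw [show zM = _ from StdG24.ExCent.z_eq]
  exact CoOneType.ClosingFacts.isConj_octad wt_c0 wt_oM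

/-- conjugation carries `RCo1 c0` to `QM` -/
theorem mem_iff {g : Spor.Co1} (hg : g * z * g⁻¹ = zM) (x : Spor.Co1) :
    g * x * g⁻¹ ∈ QM ↔ x ∈ RCo1 c0 := by
  have hfin := fin
  have hL := KFacts.Co1.InCo1.large wt_c0
  have hM := H813.CoLarge.large
  let W : Subgroup Spor.Co1 := QM.comap (MulAut.conj g).toMonoidHom
  have hWm : ∀ y, y ∈ W ↔ g * y * g⁻¹ ∈ QM := fun y => Iff.rfl
  have hg' : ∀ u, u * z = z * u → (g * u * g⁻¹) * zM = zM * (g * u * g⁻¹) := by
    intro u hu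
    rw [← hg]
    calc g * u * g⁻¹ * (g * z * g⁻¹) = g * (u * z) * g⁻¹ := by group
      _ = g * (z * u) * g⁻¹ := by rw [hu]
      _ = g * z * g⁻¹ * (g * u * g⁻¹) := by group
  have hle : W ≤ RCo1 c0 := by
    apply KFacts.LargeO2.le_of_normal hL (KFacts.Co1.InCo1.irr wt_c0) (KFacts.Co1.InCo1.exists_in wt_c0)
    · have : IsPGroup 2 QM := Cfsg.Agent.LargeExtra.Base.isPGroup hM
      exact this.comap_of_injective _ (MulAut.conj g).injective
    · intro w hw
      have h1 : (g * w * g⁻¹) * zM = zM * (g * w * g⁻¹) := hM.comm_z _ ((hWm w).1 hw)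
      rw [← hg] at h1
      have h2 : g * (w * z) * g⁻¹ = g * (z * w) * g⁻¹ := by
        calc g * (w * z) * g⁻¹ = g * w * g⁻¹ * (g * z * g⁻¹) := by group
          _ = (g * z * g⁻¹) * (g * w * g⁻¹) := h1
          _ = g * (z * w) * g⁻¹ := by group
      exact mul_left_cancel (mul_right_cancel h2)
    · intro u hu w hw
      rw [hWm] at hw ⊢
      have h1 := hM.conj_mem _ (hg' u hu) _ hw
      rwa [show g * u * g⁻¹ * (g * w * g⁻¹) * (g * u * g⁻¹)⁻¹ = g * (u * w * u⁻¹) * g⁻¹ by group] at h1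
  have hcard : Nat.card W = 512 := by
    have h1 : W.map (MulAut.conj g).toMonoidHom = QM := by
      apply Subgroup.map_comap_eq_self_of_surjective
      exact (MulAut.conj g).surjective
    have h2 : Nat.card (W.map (MulAut.conj g).toMonoidHom) = Nat.card W :=
      Subgroup.card_map_of_injective (MulAut.conj g).injective
    rw [← h2, h1, show Nat.card QM = 2 ^ 9 from H813.CoLarge.card_Q']
    norm_num
  have hW : W = RCo1 c0 := Subgroup.eq_of_le_of_card_ge hle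
    (by rw [hcard, KFacts.Co1.YBig.card_R wt_c0])
  rw [← hWm, hW]

/-- **`C(z) → Ω⁺(8,2)`** -/
theorem exists_pi : ∃ π : CZ z →* Om8, Function.Surjective π ∧ π.ker = (RCo1 c0).subgroupOf (CZ z) := by
  have hfin := fin
  obtain ⟨g, hg⟩ := isConj_iff.1 isConj_z
  obtain ⟨L, hL⟩ := H813.CoLarge.exists_L
  have hn := H813.CoLarge.normal
  obtain ⟨e⟩ := H813.OmegaCent.nonempty_equiv H813.CoLarge.large L hL H813.CoLarge.perfect H813.CoLarge.card_Q'
    H813.CoLarge.card_le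
  let πM : CZ zM →* Om8 := e.toMonoidHom.comp (QuotientGroup.mk' (QM.subgroupOf (CZ zM)))
  have hs : Function.Surjective πM := e.surjective.comp (QuotientGroup.mk'_surjective _)
  have hk : ∀ c : CZ zM, πM c = 1 ↔ (c : Spor.Co1) ∈ QM := by
    intro c
    have h1 : πM c = e (QuotientGroup.mk c) := rfl
    rw [h1, map_eq_one_iff _ e.injective, QuotientGroup.eq_one_iff]
    exact Subgroup.mem_subgroupOf
  have hmem : ∀ u : Spor.Co1, u * z = z * u → (g * u * g⁻¹) * zM = zM * (g * u * g⁻¹) := by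
    intro u hu
    rw [← hg]
    calc g * u * g⁻¹ * (g * z * g⁻¹) = g * (u * z) * g⁻¹ := by group
      _ = g * (z * u) * g⁻¹ := by rw [hu]
      _ = g * z * g⁻¹ * (g * u * g⁻¹) := by group
  let κ : CZ z →* CZ zM := ((MulAut.conj g).toMonoidHom.comp (CZ z).subtype).codRestrict (CZ zM) (fun c =>
    Subgroup.mem_centralizer_singleton_iff.2 (hmem c (Subgroup.mem_centralizer_singleton_iff.1 c.2)))
  have hκ : ∀ c : CZ z, (κ c : Spor.Co1) = g * c * g⁻¹ := fun _ => rfl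
  have hκs : Function.Surjective κ := by
    rintro ⟨d, hd0⟩
    have hd : d * zM = zM * d := Subgroup.mem_centralizer_singleton_iff.1 hd0
    have h1 : (g⁻¹ * d * g) * z = z * (g⁻¹ * d * g) := by
      rw [← hg] at hd
      calc (g⁻¹ * d * g) * z = g⁻¹ * (d * (g * z * g⁻¹)) * g := by group
        _ = g⁻¹ * ((g * z * g⁻¹) * d) * g := by rw [hd]
        _ = z * (g⁻¹ * d * g) := by group
    refine ⟨⟨g⁻¹ * d * g, Subgroup.mem_centralizer_singleton_iff.2 h1⟩, Subtype.ext ?_⟩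
    rw [hκ]
    show g * (g⁻¹ * d * g) * g⁻¹ = d
    group
  refine ⟨πM.comp κ, hs.comp hκs, ?_⟩
  ext c
  rw [MonoidHom.mem_ker, Subgroup.mem_subgroupOf, ← mem_iff hg c, ← hκ, ← hk]
  rfl

/-- the order of the centralizer -/
theorem card_cent : Nat.card (CZ z) = 89181388800 := by
  have hfin := fin
  obtain ⟨π, hπ, hk⟩ := exists_pi
  have h1 := Subgroup.card_eq_card_quotient_mul_card_subgroup π.ker
  have h2 : Nat.card (CZ z ⧸ π.ker) = Nat.card Om8 :=
    Nat.card_congr (QuotientGroup.quotientKerEquivOfSurjective π hπ).toEquiv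
  have h3 : Nat.card π.ker = 512 := by
    rw [hk]
    have hle : RCo1 c0 ≤ CZ z := fun y hy =>
      Subgroup.mem_centralizer_singleton_iff.2 ((KFacts.Co1.InCo1.large wt_c0).comm_z y hy)
    rw [Nat.card_congr (Subgroup.subgroupOfEquivOfLe hle).toEquiv]
    exact KFacts.Co1.YBig.card_R wt_c0
  rw [h1, h2, h3, card_om8]

theorem fix_of_fr {y : Spor.Co1} (h : fr y = 1) (v : L2) (hv : y • v = v) : v = 0 := by
  have h1 : Nat.card {v : L2 // y • v = v} = 1 := h
  rw [Nat.card_eq_one_iff_unique] at h1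
  have h2 := h1.1.elim ⟨v, hv⟩ ⟨0, smul_zero y⟩
  exact congrArg Subtype.val h2

/-- `p1` has no fixed point on `Λ/2Λ` -/
theorem fix_p1 (v : L2) (hv : p1 • v = v) : v = 0 := fix_of_fr H812.CoFiveData.fr_p1 v hv

/-- **the elements of `C(z)`** -/
theorem in_cent (hO : OreO8) {x : Spor.Co1} (hx : x * z = z * x) (hx1 : x ≠ 1) :
    ∃ a b : Spor.Co1, x = a * b * a⁻¹ * b⁻¹ ∧ ∃ y ∈ Subgroup.closure ({a, b} : Set Spor.Co1), IsConj y p1 := by
  have hfin := fin
  have hL := KFacts.Co1.InCo1.large wt_c0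
  have hD := H812.CoFiveData.dat card_cent
  have h5 : ¬ 5 ∣ Nat.card (RCo1 c0) := by
    rw [KFacts.Co1.YBig.card_R wt_c0]; norm_num
  obtain ⟨s, hs, hs1, hsz, hsp, hsq⟩ := hD.ex
  by_cases hxQ : x ∈ RCo1 c0
  · by_cases hxz : x = z
    · rw [hxz]
      exact main_z hL H812.CoFiveData.z_p1 H812.CoFiveData.pow_five.1 hs hs1 hsz hsp.symm
    · exact main_in hL (r := 5) (by norm_num) h5 H812.CoFiveData.z_p1 H812.CoFiveData.z_p2
        H812.CoFiveData.order_p1 H812.CoFiveData.p1_p2 (fun y hy h1 h2 => hD.inter hy (hD.swap.comm_of h1) (hD.comm_of h2))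
        hxQ hx1 hxz
  · obtain ⟨π, hπ, hk⟩ := exists_pi
    exact main_out hL (KFacts.Co1.InCo1.irr wt_c0) π hπ hk hO (r := 5) (by norm_num) h5 H812.CoFiveData.z_p1
      H812.CoFiveData.order_p1 hx hxQ

/-- the property is invariant under conjugation -/
theorem conj_aux {x : Spor.Co1} (g : Spor.Co1) (h : ∃ a b : Spor.Co1, x = a * b * a⁻¹ * b⁻¹ ∧
      ∃ y ∈ Subgroup.closure ({a, b} : Set Spor.Co1), ∀ v : L2, y • v = v → v = 0) :
    ∃ a b : Spor.Co1, g * x * g⁻¹ = a * b * a⁻¹ * b⁻¹ ∧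
      ∃ y ∈ Subgroup.closure ({a, b} : Set Spor.Co1), ∀ v : L2, y • v = v → v = 0 := by
  obtain ⟨a, b, e, y, hy, hf⟩ := h
  refine ⟨g * a * g⁻¹, g * b * g⁻¹, by rw [e]; group, g * y * g⁻¹, ?_, ?_⟩
  · have h1 : (MulAut.conj g).toMonoidHom y ∈ (Subgroup.closure ({a, b} : Set Spor.Co1)).map
        (MulAut.conj g).toMonoidHom := ⟨y, hy, rfl⟩
    rw [MonoidHom.map_closure, Set.image_pair] at h1
    exact h1
  · intro v hv
    have h1 : y • (g⁻¹ • v) = g⁻¹ • v := by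
      calc y • (g⁻¹ • v) = g⁻¹ • ((g * y * g⁻¹) • v) := by
            rw [smul_smul, smul_smul]; congr 1; group
        _ = g⁻¹ • v := by rw [hv]
    have h2 := hf _ h1
    have h3 : v = g • (g⁻¹ • v) := by rw [smul_inv_smul]
    rw [h3, h2, smul_zero]

/-- elements commuting with a conjugate of `z` -/
theorem of_comm (hO : OreO8) {x w : Spor.Co1} (hw : IsConj z w) (hx : x * w = w * x) (hx1 : x ≠ 1) :
    ∃ a b : Spor.Co1, x = a * b * a⁻¹ * b⁻¹ ∧
      ∃ y ∈ Subgroup.closure ({a, b} : Set Spor.Co1), ∀ v : L2, y • v = v → v = 0 := by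
  obtain ⟨g, hg⟩ := isConj_iff.1 hw
  have h1 : (g⁻¹ * x * g) * z = z * (g⁻¹ * x * g) := by
    rw [← hg] at hx
    calc (g⁻¹ * x * g) * z = g⁻¹ * (x * (g * z * g⁻¹)) * g := by group
      _ = g⁻¹ * ((g * z * g⁻¹) * x) * g := by rw [hx]
      _ = z * (g⁻¹ * x * g) := by group
  have h2 : g⁻¹ * x * g ≠ 1 := by
    intro h
    apply hx1
    calc x = g * (g⁻¹ * x * g) * g⁻¹ := by group
      _ = 1 := by rw [h]; group
  obtain ⟨a, b, e, y, hy, hc⟩ := in_cent hO h1 h2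
  have h3 : fr y = 1 := by
    rw [CoFive.Ranks.fr_of_isConj hc]; exact H812.CoFiveData.fr_p1
  have h4 := conj_aux g ⟨a, b, e, y, hy, fix_of_fr h3⟩
  rwa [show g * (g⁻¹ * x * g) * g⁻¹ = x by group] at h4

/-- **the 2-elements of `Co1`** -/
theorem two_co1 (hO : OreO8) (x : Spor.Co1) (hx1 : x ≠ 1) (h2 : ∃ k : ℕ, orderOf x = 2 ^ k) :
    ∃ a b : Spor.Co1, x = a * b * a⁻¹ * b⁻¹ ∧
      ∃ y ∈ Subgroup.closure ({a, b} : Set Spor.Co1), ∀ v : L2, y • v = v → v = 0 := by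
  have hfin := fin
  have hodd : Odd (CZ z).index := KFacts.Co1.InCo1.odd_index wt_c0
  obtain ⟨g, hg⟩ := exists_conj_mem hodd h2
  have hg' := Subgroup.mem_centralizer_singleton_iff.1 hg
  have h1 : g * x * g⁻¹ ≠ 1 := by
    intro h
    apply hx1
    calc x = g⁻¹ * (g * x * g⁻¹) * g := by group
      _ = 1 := by rw [h]; group
  have h3 := conj_aux g⁻¹ (of_comm hO (IsConj.refl z) hg' h1)
  rwa [show g⁻¹ * (g * x * g⁻¹) * g⁻¹⁻¹ = x by group] at h3

end Cfsg.Agent.H6.ORE.CoOne
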