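import Mathlib

/-!
# Commutators: elementary tools for Ore's conjecture (helper6, cluster ORE)

* `IsComm g` : `g = a * b * a⁻¹ * b⁻¹` for some `a b`;
* power trick: `b a b⁻¹ = a ^ k` makes `a ^ (1 - k)` a commutator (`IsComm.of_conj_pow`);
  elements of odd order which are real (`IsComm.of_real_odd`), squares of real elements;
* products of commuting pieces (`IsComm.mul`), twisted products (`IsComm.twist`).
-/

set_option autoImplicit false

namespace Cfsg.Agent.H6.ORE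

variable {G H : Type*} [Group G] [Group H]

/-- `g` is a commutator. -/
def IsComm (g : G) : Prop := ∃ a b : G, g = a * b * a⁻¹ * b⁻¹

theorem IsComm.of (a b : G) : IsComm (a * b * a⁻¹ * b⁻¹) := ⟨a, b, rfl⟩

theorem IsComm.one : IsComm (1 : G) := ⟨1, 1, by simp⟩

theorem IsComm.map (f : G →* H) {g : G} (h : IsComm g) : IsComm (f g) := by
  obtain ⟨a, b, rfl⟩ := h
  exact ⟨f a, f b, by simp⟩

theorem IsComm.map_equiv (f : G ≃* H) {g : G} : IsComm (f g) ↔ IsComm g := by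
  constructor
  · intro h
    have := h.map f.symm.toMonoidHom
    simpa using this
  · intro h
    exact h.map f.toMonoidHom

theorem IsComm.conj {g : G} (h : IsComm g) (x : G) : IsComm (x * g * x⁻¹) := by
  have := h.map (MulAut.conj x).toMonoidHom
  simpa using this

theorem IsComm.of_isConj {g h : G} (hc : IsConj g h) (hg : IsComm g) : IsComm h := by
  obtain ⟨x, rfl⟩ := isConj_iff.1 hc
  exact hg.conj x

theorem IsComm.inv {g : G} (h : IsComm g) : IsComm g⁻¹ := by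
  obtain ⟨a, b, rfl⟩ := h
  exact ⟨b, a, by group⟩

theorem IsComm.of_mem {K : Subgroup G} {g : G} (hg : g ∈ K) (h : IsComm (⟨g, hg⟩ : K)) : IsComm g :=
  h.map K.subtype

/-- if every element of a subgroup is a commutator of the subgroup -/
theorem IsComm.of_subgroup {K : Subgroup G} (h : ∀ g : K, IsComm g) {g : G} (hg : g ∈ K) :
    IsComm g := IsComm.of_mem hg (h ⟨g, hg⟩)

/-- **T7** product of two commuting pieces -/
theorem IsComm.mul {g h a b c d : G} (hg : g = a * b * a⁻¹ * b⁻¹) (hh : h = c * d * c⁻¹ * d⁻¹)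
    (hac : Commute a c) (had : Commute a d) (hbc : Commute b c) (hbd : Commute b d) :
    IsComm (g * h) := by
  refine ⟨a * c, b * d, ?_⟩
  subst hg hh
  have e1 : a * c * (b * d) * (a * c)⁻¹ * (b * d)⁻¹
      = a * (c * b) * (d * c⁻¹ * a⁻¹ * d⁻¹) * b⁻¹ := by group
  have e2 : c * b = b * c := hbc.eq.symm
  rw [e1, e2]
  have e3 : d * c⁻¹ * a⁻¹ * d⁻¹ = a⁻¹ * (d * c⁻¹ * d⁻¹) := by
    have h1 : Commute a⁻¹ (d * c⁻¹) := (had.inv_left).mul_right (hac.inv_left.inv_right)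
    calc d * c⁻¹ * a⁻¹ * d⁻¹ = (a⁻¹ * (d * c⁻¹)) * d⁻¹ := by rw [h1.eq]
      _ = _ := by group
  rw [e3]
  have h2 : Commute c a⁻¹ := (hac.inv_left).symm
  have h3 : Commute b⁻¹ (c * (d * c⁻¹ * d⁻¹)) := by
    have h4 : Commute b⁻¹ c := hbc.inv_left
    have h5 : Commute b⁻¹ d := hbd.inv_left
    exact h4.mul_right ((h5.mul_right h4.inv_right).mul_right h5.inv_right)
  calc a * b * a⁻¹ * b⁻¹ * (c * d * c⁻¹ * d⁻¹)
      = a * b * a⁻¹ * (b⁻¹ * (c * (d * c⁻¹ * d⁻¹))) := by group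
    _ = a * b * a⁻¹ * ((c * (d * c⁻¹ * d⁻¹)) * b⁻¹) := by rw [h3.eq]
    _ = a * b * (a⁻¹ * c) * (d * c⁻¹ * d⁻¹) * b⁻¹ := by group
    _ = a * b * (c * a⁻¹) * (d * c⁻¹ * d⁻¹) * b⁻¹ := by rw [h2.eq]
    _ = a * (b * c) * (a⁻¹ * (d * c⁻¹ * d⁻¹)) * b⁻¹ := by group

/-- **T7** for two commuting subgroups -/
theorem IsComm.mul_of_subgroups {X Y : Subgroup G} (hXY : ∀ x ∈ X, ∀ y ∈ Y, Commute x y)
    {g h : G} (hg : ∃ a ∈ X, ∃ b ∈ X, g = a * b * a⁻¹ * b⁻¹)
    (hh : ∃ a ∈ Y, ∃ b ∈ Y, h = a * b * a⁻¹ * b⁻¹) : IsComm (g * h) := by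
  obtain ⟨a, ha, b, hb, e⟩ := hg
  obtain ⟨c, hc, d, hd, e'⟩ := hh
  exact IsComm.mul e e' (hXY a ha c hc) (hXY a ha d hd) (hXY b hb c hc) (hXY b hb d hd)

/-- **T5** the power trick -/
theorem IsComm.of_conj_pow {a b : G} {k : ℤ} (h : b * a * b⁻¹ = a ^ k) : IsComm (a ^ (1 - k)) := by
  refine ⟨a, b, ?_⟩
  have h1 : b * a⁻¹ * b⁻¹ = a ^ (-k) := by
    have : (b * a * b⁻¹)⁻¹ = b * a⁻¹ * b⁻¹ := by group
    rw [← this, h, zpow_neg]
  calc a ^ (1 - k) = a * a ^ (-k) := by rw [sub_eq_add_neg, zpow_add, zpow_one]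
    _ = a * (b * a⁻¹ * b⁻¹) := by rw [h1]
    _ = _ := by group

/-- the square of a real element is a commutator -/
theorem IsComm.sq_of_real {a b : G} (h : b * a * b⁻¹ = a⁻¹) : IsComm (a ^ 2) := by
  have := IsComm.of_conj_pow (a := a) (b := b) (k := -1) (by simpa using h)
  simpa using this

/-- `b g b⁻¹ = g ^ k` with `k - 1` prime to the order of `g` -/
theorem IsComm.of_conj_coprime {g b : G} {k : ℤ} (h : b * g * b⁻¹ = g ^ k)
    (hk : IsCoprime (k - 1) (orderOf g : ℤ)) : IsComm g := by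
  obtain ⟨u, v, huv⟩ := hk
  have h1 : b * (g ^ (-u)) * b⁻¹ = (g ^ (-u)) ^ k := by
    have : b * (g ^ (-u)) * b⁻¹ = (b * g * b⁻¹) ^ (-u) := by
      have := map_zpow (MulAut.conj b) g (-u)
      simpa using this
    rw [this, h, ← zpow_mul, ← zpow_mul, mul_comm]
  have h2 := IsComm.of_conj_pow h1
  have h3 : (g ^ (-u)) ^ (1 - k) = g := by
    rw [← zpow_mul]
    have e : -u * (1 - k) = 1 - v * (orderOf g : ℤ) := by linarith
    rw [e, zpow_sub, zpow_one, mul_comm v, zpow_mul, zpow_natCast, pow_orderOf_eq_one, one_zpow,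
      inv_one, mul_one]
  rwa [h3] at h2

/-- real elements of odd order are commutators -/
theorem IsComm.of_real_odd {g b : G} (h : b * g * b⁻¹ = g⁻¹) (ho : Odd (orderOf g)) : IsComm g := by
  refine IsComm.of_conj_coprime (k := -1) (by simpa using h) ?_
  have h2 : IsCoprime (2 : ℤ) (orderOf g : ℤ) := by
    rw [Int.isCoprime_iff_gcd_eq_one]
    have : Nat.Coprime 2 (orderOf g) := (Nat.coprime_two_left).2 ho
    simpa [Int.gcd] using this
  have : (-1 - 1 : ℤ) = -2 := by norm_num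
  rw [this]
  exact h2.neg_left

/-- an element of prime order which is conjugate to a power of itself different from itself is a
commutator -/
theorem IsComm.of_prime {g b : G} {k : ℕ} {p : ℕ} (hp : p.Prime) (hg : orderOf g = p)
    (h : b * g * b⁻¹ = g ^ k) (hne : b * g * b⁻¹ ≠ g) : IsComm g := by
  refine IsComm.of_conj_coprime (k := (k : ℤ)) (by rw [h, zpow_natCast]) ?_
  rw [hg, Int.isCoprime_iff_gcd_eq_one, Int.gcd_comm]
  rw [← Int.isCoprime_iff_gcd_eq_one]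
  have hpz : Prime (p : ℤ) := Nat.prime_iff_prime_int.1 hp
  refine (Prime.coprime_iff_not_dvd hpz).2 ?_
  intro hd
  apply hne
  rw [h]
  obtain ⟨m, hm⟩ := hd
  have : (k : ℤ) = 1 + p * m := by linarith
  have e : g ^ k = g ^ ((k : ℤ)) := (zpow_natCast g k).symm
  rw [e, this, zpow_add, zpow_one, zpow_mul, zpow_natCast, ← hg, pow_orderOf_eq_one, one_zpow,
    mul_one]

/-- an involution which is the square of a product of two involutions (centre of a dihedral group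
of order 8) -/
theorem IsComm.of_dihedral {s t : G} (hs : s * s = 1) (ht : t * t = 1) : IsComm ((s * t) ^ 2) := by
  refine IsComm.sq_of_real (b := s) ?_
  have hs' : s⁻¹ = s := inv_eq_of_mul_eq_one_right hs
  have ht' : t⁻¹ = t := inv_eq_of_mul_eq_one_right ht
  rw [mul_inv_rev, hs', ht', ← mul_assoc, hs, one_mul]

/-- **T9** twisted product: `s = h * (u h⁻¹ u⁻¹)`, `t = x * (u y) x⁻¹ (u y)⁻¹`, `h` commutes with
`x`, `t` and with `y`-conjugation data -/
theorem IsComm.twist {s t h u x y : G} (hs : s = h * (u * h⁻¹ * u⁻¹))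
    (ht : t = x * (u * y) * x⁻¹ * (u * y)⁻¹) (hhx : Commute h x) (hhy : Commute h y)
    (hst : Commute (u * h⁻¹ * u⁻¹) x) : IsComm (s * t) := by
  refine ⟨h * x, u * y, ?_⟩
  subst hs ht
  have e1 : h * x * (u * y) * (h * x)⁻¹ * (u * y)⁻¹
      = h * x * (u * (y * (x⁻¹ * h⁻¹)) * (u * y)⁻¹) := by group
  have e2 : y * (x⁻¹ * h⁻¹) = h⁻¹ * (y * x⁻¹) := by
    have : Commute h⁻¹ (y * x⁻¹) := (hhy.inv_left).mul_right (hhx.inv_left.inv_right)
    calc y * (x⁻¹ * h⁻¹) = (y * x⁻¹) * h⁻¹ := by group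
      _ = _ := by rw [this.eq]
  rw [e1, e2]
  calc h * (u * h⁻¹ * u⁻¹) * (x * (u * y) * x⁻¹ * (u * y)⁻¹)
      = h * ((u * h⁻¹ * u⁻¹) * x) * (u * y * x⁻¹ * (u * y)⁻¹) := by group
    _ = h * (x * (u * h⁻¹ * u⁻¹)) * (u * y * x⁻¹ * (u * y)⁻¹) := by rw [hst.eq]
    _ = h * x * (u * (h⁻¹ * (y * x⁻¹)) * (u * y)⁻¹) := by group

end Cfsg.Agent.H6.ORE
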