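import Cfsg.Agent.H6.ORE.Basic

/-!
# The coset lemma, abelian step (helper6, cluster ORE)

`FP A a b`: `A = (1 - b) A + (1 - a) A` (multiplicatively), i.e. `A = [A, ⟨a, b⟩]`, i.e. `⟨a, b⟩` has
no nonzero fixed vector in the dual of `A`.

* `exists_comm_of_FP` : `A` abelian normal, `FP A a b`, `c ∈ A [a, b]`: `c = [q₁ a, q₂ b]`, `qᵢ ∈ A`;
* `lift_step` : the same along a surjection with abelian kernel.
* `FP.of_left`, `FP.of_right` : if `a` (or `b`) has no fixed point on `A`.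
* `FP.congr` : `FP` only depends on the action.
-/

set_option autoImplicit false

namespace Cfsg.Agent.H6.ORE

variable {G H : Type*} [Group G] [Group H]

/-- `A = [A, ⟨a, b⟩]` for an abelian normal subgroup `A`. -/
def FP (A : Subgroup H) (a b : H) : Prop :=
  ∀ w ∈ A, ∃ u ∈ A, ∃ v ∈ A, w = u * (b * u * b⁻¹)⁻¹ * (v * (a * v * a⁻¹)⁻¹)

theorem aux_comm {B : Type*} [CommGroup B] (x1 x2 x3 x4 x5 x6 : B) :
    x1 * x2⁻¹ * (x3 * x4⁻¹) = x1 * (x3 * x4⁻¹) * x5⁻¹ * (x5 * x6⁻¹ * x2⁻¹) * x6 := by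
  have : Additive.ofMul (x1 * x2⁻¹ * (x3 * x4⁻¹))
      = Additive.ofMul (x1 * (x3 * x4⁻¹) * x5⁻¹ * (x5 * x6⁻¹ * x2⁻¹) * x6) := by
    simp only [ofMul_mul, ofMul_inv]
    abel
  exact this

theorem exists_comm_of_FP {A : Subgroup H} (hn : A.Normal) (hA : ∀ x ∈ A, ∀ y ∈ A, x * y = y * x)
    {a b c : H} (hfp : FP A a b) (hc : c * (a * b * a⁻¹ * b⁻¹)⁻¹ ∈ A) :
    ∃ q₁ ∈ A, ∃ q₂ ∈ A, c = (q₁ * a) * (q₂ * b) * (q₁ * a)⁻¹ * (q₂ * b)⁻¹ := by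
  have : A.Normal := hn
  let _ : CommGroup A := { (inferInstance : Group A) with mul_comm := fun x y => Subtype.ext (hA x x.2 y y.2) }
  let φ : H →* MulAut A := MulAut.conjNormal
  have hφ : ∀ (h : H) (x : A), ((φ h x : A) : H) = h * x * h⁻¹ := fun h x => MulAut.conjNormal_apply h x
  set w : A := ⟨c * (a * b * a⁻¹ * b⁻¹)⁻¹, hc⟩ with hw
  obtain ⟨u, hu, v, hv, huv⟩ := hfp (φ a⁻¹ w : A) (φ a⁻¹ w : A).2
  set U : A := ⟨u, hu⟩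
  set V : A := ⟨v, hv⟩
  have huv' : φ a⁻¹ w = U * (φ b U)⁻¹ * (V * (φ a V)⁻¹) := by
    apply Subtype.ext
    simp only [Subgroup.coe_mul, Subgroup.coe_inv, hφ]
    rw [← huv, hφ]
  have hφm : ∀ (g h : H) (x : A), φ g (φ h x) = φ (g * h) x := fun g h x => by
    rw [map_mul]; rfl
  let Y : A := V * (φ a V)⁻¹
  let P : A := U * Y
  let q₁ : A := φ a P
  let q₂ : A := φ b (φ a V⁻¹)
  have key : w = q₁ * φ a q₂ * (φ (a * b * a⁻¹) q₁)⁻¹ * (φ (a * b * a⁻¹ * b⁻¹) q₂)⁻¹ := by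
    have e1 : φ (a * b * a⁻¹) q₁ = φ a (φ b P) := by
      show φ (a * b * a⁻¹) (φ a P) = _
      rw [hφm, hφm]
      congr 2
      group
    have e2 : φ (a * b * a⁻¹ * b⁻¹) q₂ = φ a (φ b V⁻¹) := by
      show φ (a * b * a⁻¹ * b⁻¹) (φ b (φ a V⁻¹)) = _
      rw [hφm, hφm, hφm]
      congr 2
      group
    have e3 : w = φ a (φ a⁻¹ w) := by
      rw [hφm, mul_inv_cancel, map_one]; rfl
    rw [e1, e2, e3, huv']
    show φ a (U * (φ b U)⁻¹ * (V * (φ a V)⁻¹)) = φ a P * φ a (φ b (φ a V⁻¹)) * (φ a (φ b P))⁻¹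
      * (φ a (φ b V⁻¹))⁻¹
    have e4 : φ a P * φ a (φ b (φ a V⁻¹)) * (φ a (φ b P))⁻¹ * (φ a (φ b V⁻¹))⁻¹
        = φ a (P * φ b (φ a V⁻¹) * (φ b P)⁻¹ * (φ b V⁻¹)⁻¹) := by
      simp only [map_mul, map_inv]
    rw [e4]
    congr 1
    show _ = U * (V * (φ a V)⁻¹) * φ b (φ a V⁻¹) * (φ b (U * (V * (φ a V)⁻¹)))⁻¹ * (φ b V⁻¹)⁻¹
    simp only [map_mul, map_inv, mul_inv_rev, inv_inv]
    exact aux_comm _ _ _ _ _ _
  refine ⟨q₁, q₁.2, q₂, q₂.2, ?_⟩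
  have h1 : (w : H) = (q₁ : H) * (a * q₂ * a⁻¹) * ((a * b * a⁻¹) * q₁ * (a * b * a⁻¹)⁻¹)⁻¹
      * ((a * b * a⁻¹ * b⁻¹) * q₂ * (a * b * a⁻¹ * b⁻¹)⁻¹)⁻¹ := by
    have := congrArg (fun x : A => (x : H)) key
    simpa only [Subgroup.coe_mul, Subgroup.coe_inv, hφ] using this
  have h2 : c = (w : H) * (a * b * a⁻¹ * b⁻¹) := by
    rw [hw]; group
  rw [h2, h1]
  group

theorem FP.mono_action {A : Subgroup H} {a b a' b' : H} (h : FP A a b)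
    (ha : ∀ x ∈ A, a * x * a⁻¹ = a' * x * a'⁻¹) (hb : ∀ x ∈ A, b * x * b⁻¹ = b' * x * b'⁻¹) :
    FP A a' b' := by
  intro w hw
  obtain ⟨u, hu, v, hv, e⟩ := h w hw
  exact ⟨u, hu, v, hv, by rw [← ha v hv, ← hb u hu]; exact e⟩

/-- **the abelian coset lemma along a surjection** -/
theorem lift_step (π : G →* H) (hcomm : ∀ x ∈ π.ker, ∀ y ∈ π.ker, x * y = y * x) {a b : G}
    (hfp : FP π.ker a b) {c : G} (hc : π c = π a * π b * (π a)⁻¹ * (π b)⁻¹) :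
    ∃ a' b' : G, π a' = π a ∧ π b' = π b ∧ c = a' * b' * a'⁻¹ * b'⁻¹ := by
  have h1 : c * (a * b * a⁻¹ * b⁻¹)⁻¹ ∈ π.ker := by
    rw [MonoidHom.mem_ker, map_mul, hc, map_inv]
    simp
  obtain ⟨q₁, h₁, q₂, h₂, e⟩ := exists_comm_of_FP inferInstance hcomm hfp h1
  refine ⟨q₁ * a, q₂ * b, ?_, ?_, e⟩
  · rw [map_mul, (MonoidHom.mem_ker).1 h₁, one_mul]
  · rw [map_mul, (MonoidHom.mem_ker).1 h₂, one_mul]

/-- `a` without fixed point on the finite abelian normal subgroup `A` -/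
theorem FP.of_left {A : Subgroup H} (hn : A.Normal) [Finite A] {a : H} (b : H)
    (hfix : ∀ x ∈ A, a * x * a⁻¹ = x → x = 1) : FP A a b := by
  have : A.Normal := hn
  have hmem : ∀ x : A, (x : H) * (a * x * a⁻¹)⁻¹ ∈ A := fun x =>
    A.mul_mem x.2 (A.inv_mem (hn.conj_mem x x.2 a))
  let f : A → A := fun x => ⟨(x : H) * (a * x * a⁻¹)⁻¹, hmem x⟩
  have hinj : Function.Injective f := by
    intro x y hxy
    have h1 : (x : H) * (a * x * a⁻¹)⁻¹ = (y : H) * (a * y * a⁻¹)⁻¹ := congrArg Subtype.val hxy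
    have h2 : (y : H)⁻¹ * x = (a * y * a⁻¹)⁻¹ * (a * x * a⁻¹) := by
      have h3 : (y : H)⁻¹ * ((x : H) * (a * x * a⁻¹)⁻¹) * (a * x * a⁻¹)
          = (y : H)⁻¹ * ((y : H) * (a * y * a⁻¹)⁻¹) * (a * x * a⁻¹) := by rw [h1]
      calc (y : H)⁻¹ * x = (y : H)⁻¹ * ((x : H) * (a * x * a⁻¹)⁻¹) * (a * x * a⁻¹) := by group
        _ = (y : H)⁻¹ * ((y : H) * (a * y * a⁻¹)⁻¹) * (a * x * a⁻¹) := h3
        _ = (a * (y:H) * a⁻¹)⁻¹ * (a * x * a⁻¹) := by group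
    have h4 := hfix ((y : H)⁻¹ * x) (A.mul_mem (A.inv_mem y.2) x.2)
      ((show a * ((y : H)⁻¹ * x) * a⁻¹ = (a * y * a⁻¹)⁻¹ * (a * x * a⁻¹) by group).trans h2.symm)
    have h5 : (x : H) = y := by
      have := congrArg (fun t => (y : H) * t) h4
      simpa using this
    exact Subtype.ext h5
  have hsurj : Function.Surjective f := Finite.surjective_of_injective hinj
  intro w hw
  obtain ⟨v, hv⟩ := hsurj ⟨w, hw⟩
  refine ⟨1, A.one_mem, v, v.2, ?_⟩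
  have := congrArg Subtype.val hv
  simp only [f] at this
  rw [← this]
  simp

/-- `b` without fixed point on the finite abelian normal subgroup `A` -/
theorem FP.of_right {A : Subgroup H} (hn : A.Normal) [Finite A]
    (hA : ∀ x ∈ A, ∀ y ∈ A, x * y = y * x) (a : H) {b : H}
    (hfix : ∀ x ∈ A, b * x * b⁻¹ = x → x = 1) : FP A a b := by
  intro w hw
  obtain ⟨u, hu, v, hv, e⟩ := FP.of_left hn (a := b) b hfix w hw
  refine ⟨u * v, A.mul_mem hu hv, 1, A.one_mem, ?_⟩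
  have hm : ∀ x ∈ A, b * x * b⁻¹ ∈ A := fun x hx => hn.conj_mem x hx b
  have e1 : (u * v) * (b * (u * v) * b⁻¹)⁻¹ = u * (b * u * b⁻¹)⁻¹ * (v * (b * v * b⁻¹)⁻¹) := by
    have e2 : v * ((b * v * b⁻¹)⁻¹ * (b * u * b⁻¹)⁻¹) = ((b * u * b⁻¹)⁻¹) * (v * (b * v * b⁻¹)⁻¹) := by
      have c1 := hA v hv ((b * u * b⁻¹)⁻¹) (A.inv_mem (hm u hu))
      have c2 := hA ((b * v * b⁻¹)⁻¹) (A.inv_mem (hm v hv)) ((b * u * b⁻¹)⁻¹) (A.inv_mem (hm u hu))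
      rw [c2, ← mul_assoc, c1, mul_assoc]
    calc (u * v) * (b * (u * v) * b⁻¹)⁻¹ = u * (v * ((b * v * b⁻¹)⁻¹ * (b * u * b⁻¹)⁻¹)) := by group
      _ = _ := by rw [e2]; group
  rw [e1, ← e]
  simp

end Cfsg.Agent.H6.ORE
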