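import Cfsg.Agent.H6.ORE.Extra

/-!
# `FPz` from the absence of common fixed points, conjugates in supplements (helper6, cluster ORE)

* `FPz.of_fix` : `ES Q z`, `Q` finite, only `1`, `z` are fixed modulo `z` by both `a` and `b`: `FPz Q z a b`;
* `exists_isConj` : `N` a normal 2-subgroup (`r`-prime order suffices), `d ≡ p` modulo `N`, `p` of prime order
  `r ∤ |N|`: a power of `d` is conjugate to `p`;
* `ES.exists_of_mem` : a non-central `q ∈ Q` is `[α, β]` with `α ≡ a`, `β ≡ b` modulo `Q` if `a`, `b` commute and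
  `FPz Q z a b`.
-/

set_option autoImplicit false

namespace Cfsg.Agent.H6.ORE

universe u

open Module

variable {H : Type u} [Group H] {Q : Subgroup H} {z : H}

/-- `V = [V, ⟨a, b⟩]` if `a`, `b` have no common fixed point on `V = Q/⟨z⟩` -/
theorem FPz.of_fix (h : ES Q z) [Finite Q] {a b : H}
    (hfix : ∀ x ∈ Q, (a * x * a⁻¹ = x ∨ a * x * a⁻¹ = x * z) → (b * x * b⁻¹ = x ∨ b * x * b⁻¹ = x * z) →
      x = 1 ∨ x = z) : FPz Q z a b := by
  classical
  obtain ⟨D⟩ := h.exists_vdata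
  let _ := D.acg
  let _ := D.mod
  have hfin := D.fin
  have : FiniteDimensional (ZMod 2) D.V := Module.Finite.of_finite
  let K : H → Q → Q := fun g x => ⟨g * x * g⁻¹, h.conj_mem x.2 g⟩
  have hL : ∀ g x, D.L g (D.cls x) = D.cls (K g x) := fun g x => D.L_cls g x _ rfl
  have ceq : ∀ s t : ZMod 2, (s = 0 ↔ t = 0) → s = t := by decide
  have h0 : D.cls 1 = 0 := by
    have := D.cls_mul 1 1
    rw [mul_one] at this
    have h2 : D.cls 1 + 0 = D.cls 1 + D.cls 1 := by rw [add_zero]; exact this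
    exact (add_left_cancel h2).symm
  have two : ∀ x : D.V, x + x = 0 := by
    intro x
    have : (2 : ZMod 2) • x = 0 := by
      rw [show (2 : ZMod 2) = 0 from rfl, zero_smul]
    rwa [two_smul] at this
  have hinv : ∀ x : Q, D.cls x⁻¹ = D.cls x := by
    intro x
    rw [D.cls_eq]
    rcases h.pow x x.2 with e' | e'
    · left
      exact (inv_eq_of_mul_eq_one_right e').symm
    · right
      have : (x : H)⁻¹ * x * x = (x : H)⁻¹ * z := by rw [mul_assoc, e']
      simpa using this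
  have key : ∀ u, (∀ v, D.ω u v = 0) → u = 0 := by
    intro u hu
    obtain ⟨x, rfl⟩ := D.surj u
    have h1 := h.nd x x.2 (fun y hy => by
      have := hu (D.cls ⟨y, hy⟩)
      rwa [D.ω_cls] at this)
    rw [← h0, eq_comm, D.cls_eq]
    simpa using h1
  have hiso : ∀ g x y, D.ω (D.L g x) (D.L g y) = D.ω x y := by
    intro g u v
    obtain ⟨x, rfl⟩ := D.surj u
    obtain ⟨y, rfl⟩ := D.surj v
    apply ceq
    rw [hL, hL, D.ω_cls, D.ω_cls]
    constructor
    · intro e'
      have e'' : g * ((x : H) * y) * g⁻¹ = g * (y * x) * g⁻¹ := by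
        calc g * ((x : H) * y) * g⁻¹ = (K g x : H) * (K g y : H) := by
              show _ = (g * x * g⁻¹) * (g * y * g⁻¹); group
          _ = (K g y : H) * (K g x : H) := e'
          _ = _ := by show (g * y * g⁻¹) * (g * x * g⁻¹) = _; group
      exact mul_left_cancel (mul_right_cancel e'')
    · intro e'
      show (g * x * g⁻¹) * (g * y * g⁻¹) = (g * y * g⁻¹) * (g * x * g⁻¹)
      calc (g * (x : H) * g⁻¹) * (g * y * g⁻¹) = g * (x * y) * g⁻¹ := by group
        _ = g * (y * x) * g⁻¹ := by rw [e']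
        _ = _ := by group
  -- every functional is given by the form
  have hrep : ∀ f : D.V →ₗ[ZMod 2] ZMod 2, ∃ u, ∀ w, f w = D.ω u w := by
    have hinj : Function.Injective D.ω := by
      rw [injective_iff_map_eq_zero]
      intro u hu
      apply key
      intro v
      rw [hu]; rfl
    have hsurj : Function.Surjective D.ω := by
      have hfr : finrank (ZMod 2) D.V = finrank (ZMod 2) (D.V →ₗ[ZMod 2] ZMod 2) :=
        (Subspace.dual_finrank_eq (K := ZMod 2) (V := D.V)).symm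
      exact (LinearMap.injective_iff_surjective_of_finrank_eq_finrank hfr).1 hinj
    intro f
    obtain ⟨u, hu⟩ := hsurj f
    exact ⟨u, fun w => by rw [← hu]⟩
  let La : D.V →ₗ[ZMod 2] D.V := LinearMap.id + (D.L a).toLinearMap
  let Lb : D.V →ₗ[ZMod 2] D.V := LinearMap.id + (D.L b).toLinearMap
  have hLa : ∀ v, La v = v + D.L a v := fun _ => rfl
  have hLb : ∀ v, Lb v = v + D.L b v := fun _ => rfl
  have hT : LinearMap.range La ⊔ LinearMap.range Lb = ⊤ := by
    by_contra hne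
    obtain ⟨f, hf, hle⟩ := Submodule.exists_le_ker_of_lt_top _ (lt_top_iff_ne_top.2 hne)
    obtain ⟨u, hu⟩ := hrep f
    have hu0 : u ≠ 0 := by
      rintro rfl
      apply hf
      ext w
      rw [hu, map_zero]
    have fixed : ∀ g : H, (∀ w, f (w + D.L g w) = 0) → D.L g u = u := by
      intro g hg
      have h1 : ∀ w, D.ω (D.L g u + u) (D.L g w) = 0 := by
        intro w
        rw [map_add, LinearMap.add_apply, hiso, ← hu, ← hu, ← map_add]
        exact hg w
      have h2 : D.L g u + u = 0 := by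
        apply key
        intro v
        obtain ⟨w, rfl⟩ := (D.L g).surjective v
        exact h1 w
      have h3 := congrArg (fun t => t + u) h2
      simpa [add_assoc, two] using h3
    have fa : D.L a u = u := fixed a fun w => hle (Submodule.mem_sup_left ⟨w, rfl⟩)
    have fb : D.L b u = u := fixed b fun w => hle (Submodule.mem_sup_right ⟨w, rfl⟩)
    obtain ⟨x, rfl⟩ := D.surj u
    apply hu0
    rw [← h0, eq_comm, D.cls_eq]
    have h5 : (x : H) = 1 ∨ (x : H) = z := by
      apply hfix x x.2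
      · rw [hL, eq_comm, D.cls_eq] at fa
        exact fa
      · rw [hL, eq_comm, D.cls_eq] at fb
        exact fb
    simpa using h5
  intro w hw
  have hw' : D.cls ⟨w, hw⟩ ∈ LinearMap.range La ⊔ LinearMap.range Lb := by rw [hT]; trivial
  rw [Submodule.mem_sup] at hw'
  obtain ⟨_, ⟨v', rfl⟩, _, ⟨u', rfl⟩, e⟩ := hw'
  obtain ⟨v, rfl⟩ := D.surj v'
  obtain ⟨u, rfl⟩ := D.surj u'
  have h2 : D.cls (u * (K b u)⁻¹ * (v * (K a v)⁻¹)) = D.cls ⟨w, hw⟩ := by
    rw [D.cls_mul, D.cls_mul, D.cls_mul, hinv, hinv, ← hL, ← hL, ← e, hLa, hLb]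
    abel
  rw [D.cls_eq] at h2
  have h3 : w = u * (b * u * b⁻¹)⁻¹ * (v * (a * v * a⁻¹)⁻¹) ∨
      w = u * (b * u * b⁻¹)⁻¹ * (v * (a * v * a⁻¹)⁻¹) * z := h2
  rcases h3 with h3 | h3
  · exact ⟨u, u.2, v, v.2, 1, Or.inl rfl, by rw [h3, mul_one]⟩
  · exact ⟨u, u.2, v, v.2, z, Or.inr rfl, h3⟩

/-- a noncentral element of `Q` as a commutator of elements congruent to `a`, `b` -/
theorem ES.exists_of_mem (h : ES Q z) {a b : H} (hab : a * b = b * a) (hfp : FPz Q z a b)
    {q : H} (hq : q ∈ Q) (hne : ¬ (q = 1 ∨ q = z)) :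
    ∃ α β : H, α * a⁻¹ ∈ Q ∧ β * b⁻¹ ∈ Q ∧ q = α * β * α⁻¹ * β⁻¹ := by
  have hab' : a * b * a⁻¹ * b⁻¹ = 1 := by rw [hab]; group
  obtain ⟨q₁, h₁, q₂, h₂, ζ, hζ, e⟩ := h.step_mod (a := a) (b := b) (c := q) hfp (by rw [hab']; simpa using hq)
  rcases hζ with rfl | rfl
  · rw [mul_one] at e
    exact ⟨q₁ * a, q₂ * b, by simpa using h₁, by simpa using h₂, e⟩
  · have : ∃ y ∈ Q, ¬ (q * y = y * q) := by
      by_contra hno
      push Not at hno
      exact hne (h.nd q hq hno)
    obtain ⟨y, hy, hyq⟩ := this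
    have e2 : q * y = y * q * ζ := (h.comm q hq y hy).resolve_left hyq
    have e3 : y⁻¹ * (q * ζ) * y = q := by
      calc y⁻¹ * (q * ζ) * y = y⁻¹ * (q * (ζ * y)) := by group
        _ = y⁻¹ * (q * y * ζ) := by rw [← h.central y]; group
        _ = y⁻¹ * (y * q * ζ * ζ) := by rw [e2]
        _ = q * (ζ * ζ) := by group
        _ = q := by rw [h.sq, mul_one]
    have hyi := Q.inv_mem hy
    refine ⟨y⁻¹ * (q₁ * a) * y, y⁻¹ * (q₂ * b) * y, ?_, ?_, ?_⟩
    · have : y⁻¹ * (q₁ * a) * y * a⁻¹ = y⁻¹ * q₁ * (a * y * a⁻¹) := by group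
      rw [this]
      exact Q.mul_mem (Q.mul_mem hyi h₁) (h.conj_mem hy a)
    · have : y⁻¹ * (q₂ * b) * y * b⁻¹ = y⁻¹ * q₂ * (b * y * b⁻¹) := by group
      rw [this]
      exact Q.mul_mem (Q.mul_mem hyi h₂) (h.conj_mem hy b)
    · rw [← e3, e]; group

/-- an element congruent to `p` (of prime order `r`) modulo a normal `r'`-subgroup has a power conjugate to `p` -/
theorem exists_isConj [Finite H] {N : Subgroup H} (hN : N.Normal) {r : ℕ} (hr : r.Prime)
    (hrN : ¬ r ∣ Nat.card N) {p d : H} (hp : orderOf p = r) (hd : d * p⁻¹ ∈ N) :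
    ∃ k : ℕ, IsConj (d ^ k) p := by
  classical
  have : Fact r.Prime := ⟨hr⟩
  let q : H →* H ⧸ N := QuotientGroup.mk' N
  have hqs : Function.Surjective q := QuotientGroup.mk'_surjective N
  have hdp : q d = q p := by
    have h1 : q (d * p⁻¹) = 1 := (QuotientGroup.eq_one_iff _).2 hd
    rw [map_mul, map_inv] at h1
    exact mul_inv_eq_one.1 h1
  -- orders modulo N
  have hqp : orderOf (q p) = r := by
    have h1 : orderOf (q p) ∣ r := by rw [← hp]; exact orderOf_map_dvd q p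
    rcases (Nat.dvd_prime hr).1 h1 with h2 | h2
    · exfalso
      have h3 : p ∈ N := (QuotientGroup.eq_one_iff _).1 (orderOf_eq_one_iff.1 h2)
      apply hrN
      have h4 : orderOf (⟨p, h3⟩ : N) ∣ Nat.card N := orderOf_dvd_natCard _
      rwa [Subgroup.orderOf_mk, hp] at h4
    · exact h2
  let P : Subgroup H := (Subgroup.zpowers (q p)).comap q
  have hpP : p ∈ P := Subgroup.mem_zpowers (q p)
  have hdP : d ∈ P := by
    show q d ∈ Subgroup.zpowers (q p)
    rw [hdp]
    exact Subgroup.mem_zpowers (q p)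
  have hcard : Nat.card P = r * Nat.card N := by
    have h1 : P.index = (Subgroup.zpowers (q p)).index := Subgroup.index_comap_of_surjective _ hqs
    have h2 : Nat.card P * P.index = Nat.card H := Subgroup.card_mul_index P
    have h3 : Nat.card (Subgroup.zpowers (q p)) * (Subgroup.zpowers (q p)).index = Nat.card (H ⧸ N) :=
      Subgroup.card_mul_index _
    rw [Nat.card_zpowers, hqp] at h3
    have h4 := Subgroup.card_eq_card_quotient_mul_card_subgroup N
    have h5 : 0 < P.index := Nat.pos_of_ne_zero Subgroup.index_ne_zero_of_finite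
    apply Nat.eq_of_mul_eq_mul_right h5
    rw [h2, h4, ← h3, h1]
    ring
  -- an element of order r in zpowers d
  have hrd : r ∣ orderOf d := by rw [← hqp, ← hdp]; exact orderOf_map_dvd q d
  obtain ⟨m, hm⟩ := hrd
  have hm0 : m ≠ 0 := by
    rintro rfl
    rw [mul_zero] at hm
    exact (orderOf_pos d).ne' hm
  have hy : orderOf (d ^ m) = r := by
    rw [orderOf_pow_of_dvd hm0 ⟨r, by rw [hm]; ring⟩, hm]
    exact Nat.mul_div_cancel r (Nat.pos_of_ne_zero hm0)
  have hyP : d ^ m ∈ P := P.pow_mem hdP m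
  -- Sylow subgroups of P
  have hsyl : ∀ x : P, orderOf (x : H) = r → ∃ S : Sylow r P, (S : Subgroup P) = Subgroup.zpowers x := by
    intro x hx
    have h1 : Nat.card (Subgroup.zpowers x) = r := by
      rw [Nat.card_zpowers, ← Subgroup.orderOf_coe, hx]
    have h2 : IsPGroup r (Subgroup.zpowers x) := IsPGroup.of_card (n := 1) (by rw [h1, pow_one])
    have h3 : ¬ r ∣ (Subgroup.zpowers x).index := by
      have h4 := Subgroup.card_mul_index (Subgroup.zpowers x)
      rw [h1, hcard] at h4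
      have h5 : (Subgroup.zpowers x).index = Nat.card N := Nat.eq_of_mul_eq_mul_left hr.pos h4
      rw [h5]; exact hrN
    exact ⟨h2.toSylow h3, rfl⟩
  obtain ⟨S, hS⟩ := hsyl ⟨p, hpP⟩ hp
  obtain ⟨T, hT⟩ := hsyl ⟨d ^ m, hyP⟩ hy
  obtain ⟨g, hg⟩ := MulAction.exists_smul_eq P T S
  have h6 : (g * ⟨d ^ m, hyP⟩ * g⁻¹ : P) ∈ (S : Subgroup P) := by
    rw [← hg]
    have h7 : g * ⟨d ^ m, hyP⟩ * g⁻¹ = (MulAut.conj g) • (⟨d ^ m, hyP⟩ : P) := rfl
    rw [h7]
    apply Subgroup.smul_mem_pointwise_smul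
    rw [hT]
    exact Subgroup.mem_zpowers _
  rw [hS] at h6
  -- p is a power of g y g⁻¹
  have h7 : Subgroup.zpowers (g * ⟨d ^ m, hyP⟩ * g⁻¹ : P) = Subgroup.zpowers ⟨p, hpP⟩ := by
    apply Subgroup.eq_of_le_of_card_ge
    · rwa [Subgroup.zpowers_le]
    · have h8 : orderOf (g * ⟨d ^ m, hyP⟩ * g⁻¹ : P) = r := by
        have h9 : orderOf (g * ⟨d ^ m, hyP⟩ * g⁻¹ : P) = orderOf (⟨d ^ m, hyP⟩ : P) :=
          (orderOf_injective (MulAut.conj g).toMonoidHom (MulAut.conj g).injective ⟨d ^ m, hyP⟩)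
        rw [h9, ← Subgroup.orderOf_coe]; exact hy
      rw [Nat.card_zpowers, Nat.card_zpowers, h8, ← Subgroup.orderOf_coe]
      exact hp.le
  have h8 : (⟨p, hpP⟩ : P) ∈ Subgroup.zpowers (g * ⟨d ^ m, hyP⟩ * g⁻¹ : P) := by
    rw [h7]; exact Subgroup.mem_zpowers _
  rw [← mem_powers_iff_mem_zpowers] at h8
  obtain ⟨k, hk⟩ := h8
  refine ⟨m * k, isConj_iff.2 ⟨g, ?_⟩⟩
  have h9 := congrArg Subtype.val hk
  have h10 : ((g : H) * d ^ m * (g : H)⁻¹) ^ k = p := h9
  rw [← h10, conj_pow, pow_mul]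

end Cfsg.Agent.H6.ORE
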